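import Cfsg.Agent.Spor.Ly3125.D0

set_option autoImplicit false
set_option maxRecDepth 100000000
set_option Elab.async false

namespace Cfsg.Agent.Spor.Ly3125

theorem ok0 : Net.okb 12 n0 = true := by decide +kernel

theorem ok1 : Net.okb 12 n1 = true := by decide +kernel

theorem ok2 : Net.okb 12 n2 = true := by decide +kernel

theorem ok3 : Net.okb 12 n3 = true := by decide +kernel

theorem ok4 : Net.okb 12 n4 = true := by decide +kernel

theorem ok5 : Net.okb 12 n5 = true := by decide +kernel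

theorem ok6 : Net.okb 12 n6 = true := by decide +kernel

theorem rel0 : T.rel 12 [7, 1, 6, 4] 0 12 = true := by decide +kernel

theorem rel1 : T.rel 12 [9, 2, 6, 5] 0 12 = true := by decide +kernel

theorem rel2 : T.rel 12 [11, 5, 6, 2] 0 12 = true := by decide +kernel

theorem rel3 : T.rel 12 [13, 3, 7, 6, 8] 0 12 = true := by decide +kernel

theorem rel4 : T.rel 12 [1, 1, 1, 1, 1, 1, 1, 1] 0 12 = true := by decide +kernel

theorem rel5 : T.rel 12 [2, 2, 2, 2, 2] 0 12 = true := by decide +kernel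

theorem rel6 : T.rel 12 [2, 1, 2, 1, 2, 1, 2, 1] 0 12 = true := by decide +kernel

theorem rel7 : T.rel 12 [2, 1, 1, 5, 4, 4] 0 12 = true := by decide +kernel

theorem rel8 : T.rel 12 [2, 1, 5, 4, 2, 1, 5, 4, 2, 1, 5, 4] 0 12 = true := by decide +kernel

theorem rel9 : T.rel 12 [3, 3, 3, 3, 3] 0 12 = true := by decide +kernel

theorem rel10 : T.rel 12 [13, 13, 13, 13, 13] 0 12 = true := by decide +kernel

theorem rel11 : T.rel 12 [13, 3, 14, 6] 0 12 = true := by decide +kernel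

theorem rel12 : T.rel 12 [13, 7, 14, 8] 0 12 = true := by decide +kernel

theorem rel13 : T.rel 12 [13, 9, 14, 10] 0 12 = true := by decide +kernel

theorem rel14 : T.rel 12 [13, 11, 14, 12] 0 12 = true := by decide +kernel

theorem rel15 : T.rel 12 [13, 13, 9, 3, 10, 6] 0 12 = true := by decide +kernel

theorem rel16 : T.rel 12 [14, 14, 11, 3, 12, 6] 0 12 = true := by decide +kernel

theorem rel17 : T.rel 12 [13, 9, 7, 10, 8] 0 12 = true := by decide +kernel

theorem rel18 : T.rel 12 [11, 7, 12, 8] 0 12 = true := by decide +kernel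

theorem rel19 : T.rel 12 [13, 11, 9, 12, 10] 0 12 = true := by decide +kernel

theorem rel20 : T.rel 12 [3, 3, 1, 7, 4] 0 12 = true := by decide +kernel

theorem rel21 : T.rel 12 [9, 9, 6, 12, 1, 9, 4] 0 12 = true := by decide +kernel

theorem rel22 : T.rel 12 [6, 7, 9, 12, 6, 12, 1, 11, 4] 0 12 = true := by decide +kernel

theorem rel23 : T.rel 12 [14, 14, 1, 13, 4] 0 12 = true := by decide +kernel

theorem rel24 : T.rel 12 [8, 10, 11, 3, 11, 2, 7, 5] 0 12 = true := by decide +kernel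

theorem rel25 : T.rel 12 [6, 6, 12, 9, 9, 2, 9, 5] 0 12 = true := by decide +kernel

theorem rel26 : T.rel 12 [14, 2, 13, 5] 0 12 = true := by decide +kernel

theorem hcov : T.treeCov (ones 3125) L 1 = true := by decide +kernel

theorem hg : lall (fun z => band (memL L z) (band (sub (ones 3125) (T.let z).cl) (T.closed (ones 3125) z))) gs = true := by decide +kernel

theorem rot1_1 : T.rot 1 [4] (sel (ones 3125) ip1 1) = true := by decide +kernel

theorem rot1_1r : band (Rule.ok (2 * 0) EX RL ⟨1 :: [4], [], 23, false⟩) (lall (memL L) [4]) = true := by decide +kernel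

theorem rot1_2 : T.rot 1 [3, 4, 8] (sel (ones 3125) ip1 2) = true := by decide +kernel

theorem rot1_2r : band (Rule.ok (2 * 0) EX RL ⟨1 :: [3, 4, 8], [], 23, false⟩) (lall (memL L) [3, 4, 8]) = true := by decide +kernel

theorem rot1_3 : T.rot 1 [6, 4, 7] (sel (ones 3125) ip1 3) = true := by decide +kernel

theorem rot1_3r : band (Rule.ok (2 * 0) EX RL ⟨1 :: [6, 4, 7], [], 23, false⟩) (lall (memL L) [6, 4, 7]) = true := by decide +kernel

theorem rot1_4 : T.rot 1 [7, 4, 3, 3] (sel (ones 3125) ip1 4) = true := by decide +kernel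

theorem rot1_4r : band (Rule.ok (2 * 0) EX RL ⟨1 :: [7, 4, 3, 3], [5, 5], 16, true⟩) (lall (memL L) [7, 4, 3, 3]) = true := by decide +kernel

theorem rot1_5 : T.rot 1 [8, 4, 6, 6] (sel (ones 3125) ip1 5) = true := by decide +kernel

theorem rot1_5r : band (Rule.ok (2 * 0) EX RL ⟨1 :: [8, 4, 6, 6], [], 16, false⟩) (lall (memL L) [8, 4, 6, 6]) = true := by decide +kernel

theorem rot1_6 : T.rot 1 [13, 4, 14, 14] (sel (ones 3125) ip1 6) = true := by decide +kernel

theorem rot1_6r : band (Rule.ok (2 * 0) EX RL ⟨1 :: [13, 4, 14, 14], [1, 5, 1, 5, 0, 4, 1, 4, 0, 0], 19, true⟩) (lall (memL L) [13, 4, 14, 14]) = true := by decide +kernel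

theorem rot1_7 : T.rot 1 [14, 4, 13, 13] (sel (ones 3125) ip1 7) = true := by decide +kernel

theorem rot1_7r : band (Rule.ok (2 * 0) EX RL ⟨1 :: [14, 4, 13, 13], [], 19, false⟩) (lall (memL L) [14, 4, 13, 13]) = true := by decide +kernel

theorem rot1_8 : T.rot 1 [1, 5, 4, 4, 2] (sel (ones 3125) ip1 8) = true := by decide +kernel

theorem rot1_8r : band (Rule.ok (2 * 0) EX RL ⟨1 :: [1, 5, 4, 4, 2], [3], 3, true⟩) (lall (memL L) [1, 5, 4, 4, 2]) = true := by decide +kernel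

theorem rot1_9 : T.rot 1 [5, 4, 4, 2, 1] (sel (ones 3125) ip1 9) = true := by decide +kernel

theorem rot1_9r : band (Rule.ok (2 * 0) EX RL ⟨1 :: [5, 4, 4, 2, 1], [3, 1], 3, true⟩) (lall (memL L) [5, 4, 4, 2, 1]) = true := by decide +kernel

theorem rot1_10 : T.rot 1 [1, 2, 4, 4, 5] (sel (ones 3125) ip1 10) = true := by decide +kernel

theorem rot1_10r : band (Rule.ok (2 * 0) EX RL ⟨1 :: [1, 2, 4, 4, 5], [], 3, false⟩) (lall (memL L) [1, 2, 4, 4, 5]) = true := by decide +kernel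

theorem rot1_11 : T.rot 1 [2, 4, 4, 5, 1] (sel (ones 3125) ip1 11) = true := by decide +kernel

theorem rot1_11r : band (Rule.ok (2 * 0) EX RL ⟨1 :: [2, 4, 4, 5, 1], [1], 3, false⟩) (lall (memL L) [2, 4, 4, 5, 1]) = true := by decide +kernel

theorem rot1_12 : T.rot 1 [9, 4, 9, 9, 6, 12] (sel (ones 3125) ip1 12) = true := by decide +kernel

theorem rot1_12r : band (Rule.ok (2 * 0) EX RL ⟨1 :: [9, 4, 9, 9, 6, 12], [1, 3, 4, 2, 0], 17, true⟩) (lall (memL L) [9, 4, 9, 9, 6, 12]) = true := by decide +kernel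

theorem rot1_13 : T.rot 1 [10, 4, 11, 3, 10, 10] (sel (ones 3125) ip1 13) = true := by decide +kernel

theorem rot1_13r : band (Rule.ok (2 * 0) EX RL ⟨1 :: [10, 4, 11, 3, 10, 10], [], 17, false⟩) (lall (memL L) [10, 4, 11, 3, 10, 10]) = true := by decide +kernel

theorem rot1_14 : T.rot 1 [1, 1, 1, 1, 1, 1, 1] (sel (ones 3125) ip1 14) = true := by decide +kernel

theorem rot1_14r : band (Rule.ok (2 * 0) EX RL ⟨1 :: [1, 1, 1, 1, 1, 1, 1], [], 0, true⟩) (lall (memL L) [1, 1, 1, 1, 1, 1, 1]) = true := by decide +kernel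

theorem rot1_15 : T.rot 1 [2, 1, 2, 1, 2, 1, 2] (sel (ones 3125) ip1 15) = true := by decide +kernel

theorem rot1_15r : band (Rule.ok (2 * 0) EX RL ⟨1 :: [2, 1, 2, 1, 2, 1, 2], [0], 2, true⟩) (lall (memL L) [2, 1, 2, 1, 2, 1, 2]) = true := by decide +kernel

theorem rot1_16 : T.rot 1 [11, 4, 6, 7, 9, 12, 6, 12] (sel (ones 3125) ip1 16) = true := by decide +kernel

theorem rot1_16r : band (Rule.ok (2 * 0) EX RL ⟨1 :: [11, 4, 6, 7, 9, 12, 6, 12], [1, 2, 4, 3, 0], 18, true⟩) (lall (memL L) [11, 4, 6, 7, 9, 12, 6, 12]) = true := by decide +kernel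

theorem rot1_17 : T.rot 1 [12, 4, 11, 3, 11, 10, 8, 3] (sel (ones 3125) ip1 17) = true := by decide +kernel

theorem rot1_17r : band (Rule.ok (2 * 0) EX RL ⟨1 :: [12, 4, 11, 3, 11, 10, 8, 3], [], 18, false⟩) (lall (memL L) [12, 4, 11, 3, 11, 10, 8, 3]) = true := by decide +kernel

theorem rot1_18 : T.rot 1 [5, 4, 2, 1, 5, 4, 2, 1, 5, 4, 2] (sel (ones 3125) ip1 18) = true := by decide +kernel

theorem rot1_18r : band (Rule.ok (2 * 0) EX RL ⟨1 :: [5, 4, 2, 1, 5, 4, 2, 1, 5, 4, 2], [3], 4, true⟩) (lall (memL L) [5, 4, 2, 1, 5, 4, 2, 1, 5, 4, 2]) = true := by decide +kernel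

theorem rot1_19 : T.rot 1 [2, 4, 5, 1, 2, 4, 5, 1, 2, 4, 5] (sel (ones 3125) ip1 19) = true := by decide +kernel

theorem rot1_19r : band (Rule.ok (2 * 0) EX RL ⟨1 :: [2, 4, 5, 1, 2, 4, 5, 1, 2, 4, 5], [], 4, false⟩) (lall (memL L) [2, 4, 5, 1, 2, 4, 5, 1, 2, 4, 5]) = true := by decide +kernel

theorem cov1 : T.cover 1 [(sel (ones 3125) ip1 1), (sel (ones 3125) ip1 2), (sel (ones 3125) ip1 3), (sel (ones 3125) ip1 4), (sel (ones 3125) ip1 5), (sel (ones 3125) ip1 6), (sel (ones 3125) ip1 7), (sel (ones 3125) ip1 8), (sel (ones 3125) ip1 9), (sel (ones 3125) ip1 10), (sel (ones 3125) ip1 11), (sel (ones 3125) ip1 12), (sel (ones 3125) ip1 13), (sel (ones 3125) ip1 14), (sel (ones 3125) ip1 15), (sel (ones 3125) ip1 16), (sel (ones 3125) ip1 17), (sel (ones 3125) ip1 18), (sel (ones 3125) ip1 19), 1] = true := by decide +kernel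

theorem tl1 : T.treeLt 12 1 = true := by decide +kernel

theorem rot2_1 : T.rot 2 [5] (sel (ones 3125) ip2 1) = true := by decide +kernel

theorem rot2_1r : band (Rule.ok (2 * 0) EX RL ⟨2 :: [5], [], 23, false⟩) (lall (memL L) [5]) = true := by decide +kernel

theorem rot2_2 : T.rot 2 [13, 5, 14] (sel (ones 3125) ip2 2) = true := by decide +kernel

theorem rot2_2r : band (Rule.ok (2 * 0) EX RL ⟨2 :: [13, 5, 14], [5, 1, 5, 0, 4, 1, 4, 0], 22, true⟩) (lall (memL L) [13, 5, 14]) = true := by decide +kernel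

theorem rot2_3 : T.rot 2 [14, 5, 13] (sel (ones 3125) ip2 3) = true := by decide +kernel

theorem rot2_3r : band (Rule.ok (2 * 0) EX RL ⟨2 :: [14, 5, 13], [], 22, false⟩) (lall (memL L) [14, 5, 13]) = true := by decide +kernel

theorem rot2_4 : T.rot 2 [3, 5, 10] (sel (ones 3125) ip2 4) = true := by decide +kernel

theorem rot2_4r : band (Rule.ok (2 * 0) EX RL ⟨2 :: [3, 5, 10], [], 23, false⟩) (lall (memL L) [3, 5, 10]) = true := by decide +kernel

theorem rot2_5 : T.rot 2 [6, 5, 9] (sel (ones 3125) ip2 5) = true := by decide +kernel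

theorem rot2_5r : band (Rule.ok (2 * 0) EX RL ⟨2 :: [6, 5, 9], [], 23, false⟩) (lall (memL L) [6, 5, 9]) = true := by decide +kernel

theorem rot2_6 : T.rot 2 [12, 5, 3] (sel (ones 3125) ip2 6) = true := by decide +kernel

theorem rot2_6r : band (Rule.ok (2 * 0) EX RL ⟨2 :: [12, 5, 3], [], 23, false⟩) (lall (memL L) [12, 5, 3]) = true := by decide +kernel

theorem rot2_7 : T.rot 2 [11, 5, 6] (sel (ones 3125) ip2 7) = true := by decide +kernel

theorem rot2_7r : band (Rule.ok (2 * 0) EX RL ⟨2 :: [11, 5, 6], [], 23, false⟩) (lall (memL L) [11, 5, 6]) = true := by decide +kernel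

theorem rot2_8 : T.rot 2 [2, 2, 2, 2] (sel (ones 3125) ip2 8) = true := by decide +kernel

theorem rot2_8r : band (Rule.ok (2 * 0) EX RL ⟨2 :: [2, 2, 2, 2], [], 1, true⟩) (lall (memL L) [2, 2, 2, 2]) = true := by decide +kernel

theorem rot2_9 : T.rot 2 [1, 1, 5, 4, 4] (sel (ones 3125) ip2 9) = true := by decide +kernel

theorem rot2_9r : band (Rule.ok (2 * 0) EX RL ⟨2 :: [1, 1, 5, 4, 4], [], 3, true⟩) (lall (memL L) [1, 1, 5, 4, 4]) = true := by decide +kernel

theorem rot2_10 : T.rot 2 [4, 4, 5, 1, 1] (sel (ones 3125) ip2 10) = true := by decide +kernel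

theorem rot2_10r : band (Rule.ok (2 * 0) EX RL ⟨2 :: [4, 4, 5, 1, 1], [1, 1], 3, false⟩) (lall (memL L) [4, 4, 5, 1, 1]) = true := by decide +kernel

theorem rot2_11 : T.rot 2 [1, 2, 1, 2, 1, 2, 1] (sel (ones 3125) ip2 11) = true := by decide +kernel

theorem rot2_11r : band (Rule.ok (2 * 0) EX RL ⟨2 :: [1, 2, 1, 2, 1, 2, 1], [], 2, true⟩) (lall (memL L) [1, 2, 1, 2, 1, 2, 1]) = true := by decide +kernel

theorem rot2_12 : T.rot 2 [7, 5, 8, 10, 11, 3, 11] (sel (ones 3125) ip2 12) = true := by decide +kernel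

theorem rot2_12r : band (Rule.ok (2 * 0) EX RL ⟨2 :: [7, 5, 8, 10, 11, 3, 11], [3, 1, 4, 0, 2], 20, true⟩) (lall (memL L) [7, 5, 8, 10, 11, 3, 11]) = true := by decide +kernel

theorem rot2_13 : T.rot 2 [8, 5, 12, 6, 12, 9, 7] (sel (ones 3125) ip2 13) = true := by decide +kernel

theorem rot2_13r : band (Rule.ok (2 * 0) EX RL ⟨2 :: [8, 5, 12, 6, 12, 9, 7], [], 20, false⟩) (lall (memL L) [8, 5, 12, 6, 12, 9, 7]) = true := by decide +kernel

theorem rot2_14 : T.rot 2 [9, 5, 6, 6, 12, 9, 9] (sel (ones 3125) ip2 14) = true := by decide +kernel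

theorem rot2_14r : band (Rule.ok (2 * 0) EX RL ⟨2 :: [9, 5, 6, 6, 12, 9, 9], [3, 3, 4, 2, 2], 21, true⟩) (lall (memL L) [9, 5, 6, 6, 12, 9, 9]) = true := by decide +kernel

theorem rot2_15 : T.rot 2 [10, 5, 10, 10, 11, 3, 3] (sel (ones 3125) ip2 15) = true := by decide +kernel

theorem rot2_15r : band (Rule.ok (2 * 0) EX RL ⟨2 :: [10, 5, 10, 10, 11, 3, 3], [], 21, false⟩) (lall (memL L) [10, 5, 10, 10, 11, 3, 3]) = true := by decide +kernel

theorem rot2_16 : T.rot 2 [1, 5, 4, 2, 1, 5, 4, 2, 1, 5, 4] (sel (ones 3125) ip2 16) = true := by decide +kernel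

theorem rot2_16r : band (Rule.ok (2 * 0) EX RL ⟨2 :: [1, 5, 4, 2, 1, 5, 4, 2, 1, 5, 4], [], 4, true⟩) (lall (memL L) [1, 5, 4, 2, 1, 5, 4, 2, 1, 5, 4]) = true := by decide +kernel

theorem rot2_17 : T.rot 2 [4, 5, 1, 2, 4, 5, 1, 2, 4, 5, 1] (sel (ones 3125) ip2 17) = true := by decide +kernel

theorem rot2_17r : band (Rule.ok (2 * 0) EX RL ⟨2 :: [4, 5, 1, 2, 4, 5, 1, 2, 4, 5, 1], [1], 4, false⟩) (lall (memL L) [4, 5, 1, 2, 4, 5, 1, 2, 4, 5, 1]) = true := by decide +kernel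

theorem cov2 : T.cover 2 [(sel (ones 3125) ip2 1), (sel (ones 3125) ip2 2), (sel (ones 3125) ip2 3), (sel (ones 3125) ip2 4), (sel (ones 3125) ip2 5), (sel (ones 3125) ip2 6), (sel (ones 3125) ip2 7), (sel (ones 3125) ip2 8), (sel (ones 3125) ip2 9), (sel (ones 3125) ip2 10), (sel (ones 3125) ip2 11), (sel (ones 3125) ip2 12), (sel (ones 3125) ip2 13), (sel (ones 3125) ip2 14), (sel (ones 3125) ip2 15), (sel (ones 3125) ip2 16), (sel (ones 3125) ip2 17), 1] = true := by decide +kernel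

theorem tl2 : T.treeLt 12 2 = true := by decide +kernel

theorem rot3_1 : T.rot 3 [6] (sel (ones 3125) ip3 1) = true := by decide +kernel

theorem rot3_1r : band (Rule.ok (2 * 0) EX RL ⟨3 :: [6], [], 23, false⟩) (lall (memL L) [6]) = true := by decide +kernel

theorem rot3_2 : T.rot 3 [14, 6, 13] (sel (ones 3125) ip3 2) = true := by decide +kernel

theorem rot3_2r : band (Rule.ok (2 * 0) EX RL ⟨3 :: [14, 6, 13], [1, 5, 0, 5, 1, 4, 0, 4], 7, true⟩) (lall (memL L) [14, 6, 13]) = true := by decide +kernel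

theorem rot3_3 : T.rot 3 [13, 6, 14] (sel (ones 3125) ip3 3) = true := by decide +kernel

theorem rot3_3r : band (Rule.ok (2 * 0) EX RL ⟨3 :: [13, 6, 14], [], 7, false⟩) (lall (memL L) [13, 6, 14]) = true := by decide +kernel

theorem rot3_4 : T.rot 3 [4, 8, 1] (sel (ones 3125) ip3 4) = true := by decide +kernel

theorem rot3_4r : band (Rule.ok (2 * 0) EX RL ⟨3 :: [4, 8, 1], [], 23, false⟩) (lall (memL L) [4, 8, 1]) = true := by decide +kernel

theorem rot3_5 : T.rot 3 [5, 10, 2] (sel (ones 3125) ip3 5) = true := by decide +kernel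

theorem rot3_5r : band (Rule.ok (2 * 0) EX RL ⟨3 :: [5, 10, 2], [], 23, false⟩) (lall (memL L) [5, 10, 2]) = true := by decide +kernel

theorem rot3_6 : T.rot 3 [2, 12, 5] (sel (ones 3125) ip3 6) = true := by decide +kernel

theorem rot3_6r : band (Rule.ok (2 * 0) EX RL ⟨3 :: [2, 12, 5], [], 23, false⟩) (lall (memL L) [2, 12, 5]) = true := by decide +kernel

theorem rot3_7 : T.rot 3 [3, 3, 3, 3] (sel (ones 3125) ip3 7) = true := by decide +kernel

theorem rot3_7r : band (Rule.ok (2 * 0) EX RL ⟨3 :: [3, 3, 3, 3], [], 5, true⟩) (lall (memL L) [3, 3, 3, 3]) = true := by decide +kernel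

theorem rot3_8 : T.rot 3 [3, 1, 7, 4] (sel (ones 3125) ip3 8) = true := by decide +kernel

theorem rot3_8r : band (Rule.ok (2 * 0) EX RL ⟨3 :: [3, 1, 7, 4], [], 16, true⟩) (lall (memL L) [3, 1, 7, 4]) = true := by decide +kernel

theorem rot3_9 : T.rot 3 [1, 7, 4, 3] (sel (ones 3125) ip3 9) = true := by decide +kernel

theorem rot3_9r : band (Rule.ok (2 * 0) EX RL ⟨3 :: [1, 7, 4, 3], [5], 16, true⟩) (lall (memL L) [1, 7, 4, 3]) = true := by decide +kernel

theorem rot3_10 : T.rot 3 [8, 6, 14, 7] (sel (ones 3125) ip3 10) = true := by decide +kernel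

theorem rot3_10r : band (Rule.ok (2 * 0) EX RL ⟨3 :: [8, 6, 14, 7], [], 23, false⟩) (lall (memL L) [8, 6, 14, 7]) = true := by decide +kernel

theorem rot3_11 : T.rot 3 [7, 6, 8, 13] (sel (ones 3125) ip3 11) = true := by decide +kernel

theorem rot3_11r : band (Rule.ok (2 * 0) EX RL ⟨3 :: [7, 6, 8, 13], [], 23, false⟩) (lall (memL L) [7, 6, 8, 13]) = true := by decide +kernel

theorem rot3_12 : T.rot 3 [10, 6, 13, 13, 9] (sel (ones 3125) ip3 12) = true := by decide +kernel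

theorem rot3_12r : band (Rule.ok (2 * 0) EX RL ⟨3 :: [10, 6, 13, 13, 9], [5, 3, 5, 2, 4], 11, true⟩) (lall (memL L) [10, 6, 13, 13, 9]) = true := by decide +kernel

theorem rot3_13 : T.rot 3 [9, 6, 10, 14, 14] (sel (ones 3125) ip3 13) = true := by decide +kernel

theorem rot3_13r : band (Rule.ok (2 * 0) EX RL ⟨3 :: [9, 6, 10, 14, 14], [], 11, false⟩) (lall (memL L) [9, 6, 10, 14, 14]) = true := by decide +kernel

theorem rot3_14 : T.rot 3 [12, 6, 14, 14, 11] (sel (ones 3125) ip3 14) = true := by decide +kernel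

theorem rot3_14r : band (Rule.ok (2 * 0) EX RL ⟨3 :: [12, 6, 14, 14, 11], [5, 2, 5, 3, 4], 12, true⟩) (lall (memL L) [12, 6, 14, 14, 11]) = true := by decide +kernel

theorem rot3_15 : T.rot 3 [11, 6, 12, 13, 13] (sel (ones 3125) ip3 15) = true := by decide +kernel

theorem rot3_15r : band (Rule.ok (2 * 0) EX RL ⟨3 :: [11, 6, 12, 13, 13], [], 12, false⟩) (lall (memL L) [11, 6, 12, 13, 13]) = true := by decide +kernel

theorem rot3_16 : T.rot 3 [10, 10, 1, 10, 4, 11] (sel (ones 3125) ip3 16) = true := by decide +kernel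

theorem rot3_16r : band (Rule.ok (2 * 0) EX RL ⟨3 :: [10, 10, 1, 10, 4, 11], [3, 5, 5, 2, 4], 17, false⟩) (lall (memL L) [10, 10, 1, 10, 4, 11]) = true := by decide +kernel

theorem rot3_17 : T.rot 3 [11, 2, 7, 5, 8, 10, 11] (sel (ones 3125) ip3 17) = true := by decide +kernel

theorem rot3_17r : band (Rule.ok (2 * 0) EX RL ⟨3 :: [11, 2, 7, 5, 8, 10, 11], [3, 1, 4, 0, 2, 2, 4, 3, 4], 20, true⟩) (lall (memL L) [11, 2, 7, 5, 8, 10, 11]) = true := by decide +kernel

theorem rot3_18 : T.rot 3 [3, 2, 10, 5, 10, 10, 11] (sel (ones 3125) ip3 18) = true := by decide +kernel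

theorem rot3_18r : band (Rule.ok (2 * 0) EX RL ⟨3 :: [3, 2, 10, 5, 10, 10, 11], [4, 4], 21, false⟩) (lall (memL L) [3, 2, 10, 5, 10, 10, 11]) = true := by decide +kernel

theorem rot3_19 : T.rot 3 [2, 10, 5, 10, 10, 11, 3] (sel (ones 3125) ip3 19) = true := by decide +kernel

theorem rot3_19r : band (Rule.ok (2 * 0) EX RL ⟨3 :: [2, 10, 5, 10, 10, 11, 3], [4], 21, false⟩) (lall (memL L) [2, 10, 5, 10, 10, 11, 3]) = true := by decide +kernel

theorem rot3_20 : T.rot 3 [11, 10, 8, 3, 1, 12, 4, 11] (sel (ones 3125) ip3 20) = true := by decide +kernel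

theorem rot3_20r : band (Rule.ok (2 * 0) EX RL ⟨3 :: [11, 10, 8, 3, 1, 12, 4, 11], [1, 2, 4, 3, 0, 2, 5, 3], 18, false⟩) (lall (memL L) [11, 10, 8, 3, 1, 12, 4, 11]) = true := by decide +kernel

theorem rot3_21 : T.rot 3 [1, 12, 4, 11, 3, 11, 10, 8] (sel (ones 3125) ip3 21) = true := by decide +kernel

theorem rot3_21r : band (Rule.ok (2 * 0) EX RL ⟨3 :: [1, 12, 4, 11, 3, 11, 10, 8], [4], 18, false⟩) (lall (memL L) [1, 12, 4, 11, 3, 11, 10, 8]) = true := by decide +kernel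

theorem cov3 : T.cover 3 [(sel (ones 3125) ip3 1), (sel (ones 3125) ip3 2), (sel (ones 3125) ip3 3), (sel (ones 3125) ip3 4), (sel (ones 3125) ip3 5), (sel (ones 3125) ip3 6), (sel (ones 3125) ip3 7), (sel (ones 3125) ip3 8), (sel (ones 3125) ip3 9), (sel (ones 3125) ip3 10), (sel (ones 3125) ip3 11), (sel (ones 3125) ip3 12), (sel (ones 3125) ip3 13), (sel (ones 3125) ip3 14), (sel (ones 3125) ip3 15), (sel (ones 3125) ip3 16), (sel (ones 3125) ip3 17), (sel (ones 3125) ip3 18), (sel (ones 3125) ip3 19), (sel (ones 3125) ip3 20), (sel (ones 3125) ip3 21)] = true := by decide +kernel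

theorem tl3 : T.treeLt 12 3 = true := by decide +kernel

theorem rot4_1 : T.rot 4 [1] (sel (ones 3125) ip4 1) = true := by decide +kernel

theorem rot4_1r : band (Rule.ok (2 * 0) EX RL ⟨4 :: [1], [], 23, false⟩) (lall (memL L) [1]) = true := by decide +kernel

theorem rot4_2 : T.rot 4 [8, 1, 3] (sel (ones 3125) ip4 2) = true := by decide +kernel

theorem rot4_2r : band (Rule.ok (2 * 0) EX RL ⟨4 :: [8, 1, 3], [], 23, false⟩) (lall (memL L) [8, 1, 3]) = true := by decide +kernel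

theorem rot4_3 : T.rot 4 [7, 1, 6] (sel (ones 3125) ip4 3) = true := by decide +kernel

theorem rot4_3r : band (Rule.ok (2 * 0) EX RL ⟨4 :: [7, 1, 6], [], 23, false⟩) (lall (memL L) [7, 1, 6]) = true := by decide +kernel

theorem rot4_4 : T.rot 4 [3, 3, 1, 7] (sel (ones 3125) ip4 4) = true := by decide +kernel

theorem rot4_4r : band (Rule.ok (2 * 0) EX RL ⟨4 :: [3, 3, 1, 7], [1], 16, true⟩) (lall (memL L) [3, 3, 1, 7]) = true := by decide +kernel

theorem rot4_5 : T.rot 4 [6, 6, 1, 8] (sel (ones 3125) ip4 5) = true := by decide +kernel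

theorem rot4_5r : band (Rule.ok (2 * 0) EX RL ⟨4 :: [6, 6, 1, 8], [5, 5, 1], 16, false⟩) (lall (memL L) [6, 6, 1, 8]) = true := by decide +kernel

theorem rot4_6 : T.rot 4 [14, 14, 1, 13] (sel (ones 3125) ip4 6) = true := by decide +kernel

theorem rot4_6r : band (Rule.ok (2 * 0) EX RL ⟨4 :: [14, 14, 1, 13], [1], 19, true⟩) (lall (memL L) [14, 14, 1, 13]) = true := by decide +kernel

theorem rot4_7 : T.rot 4 [13, 13, 1, 14] (sel (ones 3125) ip4 7) = true := by decide +kernel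

theorem rot4_7r : band (Rule.ok (2 * 0) EX RL ⟨4 :: [13, 13, 1, 14], [1, 5, 1, 5, 0, 4, 1, 4, 0], 19, false⟩) (lall (memL L) [13, 13, 1, 14]) = true := by decide +kernel

theorem rot4_8 : T.rot 4 [4, 2, 1, 1, 5] (sel (ones 3125) ip4 8) = true := by decide +kernel

theorem rot4_8r : band (Rule.ok (2 * 0) EX RL ⟨4 :: [4, 2, 1, 1, 5], [1, 1], 3, true⟩) (lall (memL L) [4, 2, 1, 1, 5]) = true := by decide +kernel

theorem rot4_9 : T.rot 4 [2, 1, 1, 5, 4] (sel (ones 3125) ip4 9) = true := by decide +kernel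

theorem rot4_9r : band (Rule.ok (2 * 0) EX RL ⟨4 :: [2, 1, 1, 5, 4], [1], 3, true⟩) (lall (memL L) [2, 1, 1, 5, 4]) = true := by decide +kernel

theorem rot4_10 : T.rot 4 [4, 5, 1, 1, 2] (sel (ones 3125) ip4 10) = true := by decide +kernel

theorem rot4_10r : band (Rule.ok (2 * 0) EX RL ⟨4 :: [4, 5, 1, 1, 2], [3, 1, 1], 3, false⟩) (lall (memL L) [4, 5, 1, 1, 2]) = true := by decide +kernel

theorem rot4_11 : T.rot 4 [5, 1, 1, 2, 4] (sel (ones 3125) ip4 11) = true := by decide +kernel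

theorem rot4_11r : band (Rule.ok (2 * 0) EX RL ⟨4 :: [5, 1, 1, 2, 4], [3, 1], 3, false⟩) (lall (memL L) [5, 1, 1, 2, 4]) = true := by decide +kernel

theorem rot4_12 : T.rot 4 [9, 9, 6, 12, 1, 9] (sel (ones 3125) ip4 12) = true := by decide +kernel

theorem rot4_12r : band (Rule.ok (2 * 0) EX RL ⟨4 :: [9, 9, 6, 12, 1, 9], [1], 17, true⟩) (lall (memL L) [9, 9, 6, 12, 1, 9]) = true := by decide +kernel

theorem rot4_13 : T.rot 4 [11, 3, 10, 10, 1, 10] (sel (ones 3125) ip4 13) = true := by decide +kernel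

theorem rot4_13r : band (Rule.ok (2 * 0) EX RL ⟨4 :: [11, 3, 10, 10, 1, 10], [1, 3, 4, 2], 17, false⟩) (lall (memL L) [11, 3, 10, 10, 1, 10]) = true := by decide +kernel

theorem rot4_14 : T.rot 4 [4, 4, 4, 4, 4, 4, 4] (sel (ones 3125) ip4 14) = true := by decide +kernel

theorem rot4_14r : band (Rule.ok (2 * 0) EX RL ⟨4 :: [4, 4, 4, 4, 4, 4, 4], [], 0, false⟩) (lall (memL L) [4, 4, 4, 4, 4, 4, 4]) = true := by decide +kernel

theorem rot4_15 : T.rot 4 [5, 4, 5, 4, 5, 4, 5] (sel (ones 3125) ip4 15) = true := by decide +kernel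

theorem rot4_15r : band (Rule.ok (2 * 0) EX RL ⟨4 :: [5, 4, 5, 4, 5, 4, 5], [], 2, false⟩) (lall (memL L) [5, 4, 5, 4, 5, 4, 5]) = true := by decide +kernel

theorem rot4_16 : T.rot 4 [6, 7, 9, 12, 6, 12, 1, 11] (sel (ones 3125) ip4 16) = true := by decide +kernel

theorem rot4_16r : band (Rule.ok (2 * 0) EX RL ⟨4 :: [6, 7, 9, 12, 6, 12, 1, 11], [1], 18, true⟩) (lall (memL L) [6, 7, 9, 12, 6, 12, 1, 11]) = true := by decide +kernel

theorem rot4_17 : T.rot 4 [11, 3, 11, 10, 8, 3, 1, 12] (sel (ones 3125) ip4 17) = true := by decide +kernel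

theorem rot4_17r : band (Rule.ok (2 * 0) EX RL ⟨4 :: [11, 3, 11, 10, 8, 3, 1, 12], [1, 2, 4, 3], 18, false⟩) (lall (memL L) [11, 3, 11, 10, 8, 3, 1, 12]) = true := by decide +kernel

theorem rot4_18 : T.rot 4 [2, 1, 5, 4, 2, 1, 5, 4, 2, 1, 5] (sel (ones 3125) ip4 18) = true := by decide +kernel

theorem rot4_18r : band (Rule.ok (2 * 0) EX RL ⟨4 :: [2, 1, 5, 4, 2, 1, 5, 4, 2, 1, 5], [1], 4, true⟩) (lall (memL L) [2, 1, 5, 4, 2, 1, 5, 4, 2, 1, 5]) = true := by decide +kernel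

theorem rot4_19 : T.rot 4 [5, 1, 2, 4, 5, 1, 2, 4, 5, 1, 2] (sel (ones 3125) ip4 19) = true := by decide +kernel

theorem rot4_19r : band (Rule.ok (2 * 0) EX RL ⟨4 :: [5, 1, 2, 4, 5, 1, 2, 4, 5, 1, 2], [3, 1], 4, false⟩) (lall (memL L) [5, 1, 2, 4, 5, 1, 2, 4, 5, 1, 2]) = true := by decide +kernel

theorem cov4 : T.cover 4 [(sel (ones 3125) ip4 1), (sel (ones 3125) ip4 2), (sel (ones 3125) ip4 3), (sel (ones 3125) ip4 4), (sel (ones 3125) ip4 5), (sel (ones 3125) ip4 6), (sel (ones 3125) ip4 7), (sel (ones 3125) ip4 8), (sel (ones 3125) ip4 9), (sel (ones 3125) ip4 10), (sel (ones 3125) ip4 11), (sel (ones 3125) ip4 12), (sel (ones 3125) ip4 13), (sel (ones 3125) ip4 14), (sel (ones 3125) ip4 15), (sel (ones 3125) ip4 16), (sel (ones 3125) ip4 17), (sel (ones 3125) ip4 18), (sel (ones 3125) ip4 19)] = true := by decide +kernel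

theorem tl4 : T.treeLt 12 4 = true := by decide +kernel

theorem rot5_1 : T.rot 5 [2] (sel (ones 3125) ip5 1) = true := by decide +kernel

theorem rot5_1r : band (Rule.ok (2 * 0) EX RL ⟨5 :: [2], [], 23, false⟩) (lall (memL L) [2]) = true := by decide +kernel

theorem rot5_2 : T.rot 5 [14, 2, 13] (sel (ones 3125) ip5 2) = true := by decide +kernel

theorem rot5_2r : band (Rule.ok (2 * 0) EX RL ⟨5 :: [14, 2, 13], [3], 22, true⟩) (lall (memL L) [14, 2, 13]) = true := by decide +kernel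

theorem rot5_3 : T.rot 5 [13, 2, 14] (sel (ones 3125) ip5 3) = true := by decide +kernel

theorem rot5_3r : band (Rule.ok (2 * 0) EX RL ⟨5 :: [13, 2, 14], [5, 1, 5, 0, 4, 1, 4, 0, 3], 22, false⟩) (lall (memL L) [13, 2, 14]) = true := by decide +kernel

theorem rot5_4 : T.rot 5 [10, 2, 3] (sel (ones 3125) ip5 4) = true := by decide +kernel

theorem rot5_4r : band (Rule.ok (2 * 0) EX RL ⟨5 :: [10, 2, 3], [], 23, false⟩) (lall (memL L) [10, 2, 3]) = true := by decide +kernel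

theorem rot5_5 : T.rot 5 [9, 2, 6] (sel (ones 3125) ip5 5) = true := by decide +kernel

theorem rot5_5r : band (Rule.ok (2 * 0) EX RL ⟨5 :: [9, 2, 6], [], 23, false⟩) (lall (memL L) [9, 2, 6]) = true := by decide +kernel

theorem rot5_6 : T.rot 5 [3, 2, 12] (sel (ones 3125) ip5 6) = true := by decide +kernel

theorem rot5_6r : band (Rule.ok (2 * 0) EX RL ⟨5 :: [3, 2, 12], [], 23, false⟩) (lall (memL L) [3, 2, 12]) = true := by decide +kernel

theorem rot5_7 : T.rot 5 [6, 2, 11] (sel (ones 3125) ip5 7) = true := by decide +kernel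

theorem rot5_7r : band (Rule.ok (2 * 0) EX RL ⟨5 :: [6, 2, 11], [], 23, false⟩) (lall (memL L) [6, 2, 11]) = true := by decide +kernel

theorem rot5_8 : T.rot 5 [5, 5, 5, 5] (sel (ones 3125) ip5 8) = true := by decide +kernel

theorem rot5_8r : band (Rule.ok (2 * 0) EX RL ⟨5 :: [5, 5, 5, 5], [], 1, false⟩) (lall (memL L) [5, 5, 5, 5]) = true := by decide +kernel

theorem rot5_9 : T.rot 5 [4, 4, 2, 1, 1] (sel (ones 3125) ip5 9) = true := by decide +kernel

theorem rot5_9r : band (Rule.ok (2 * 0) EX RL ⟨5 :: [4, 4, 2, 1, 1], [1, 1, 3], 3, true⟩) (lall (memL L) [4, 4, 2, 1, 1]) = true := by decide +kernel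

theorem rot5_10 : T.rot 5 [1, 1, 2, 4, 4] (sel (ones 3125) ip5 10) = true := by decide +kernel

theorem rot5_10r : band (Rule.ok (2 * 0) EX RL ⟨5 :: [1, 1, 2, 4, 4], [3], 3, false⟩) (lall (memL L) [1, 1, 2, 4, 4]) = true := by decide +kernel

theorem rot5_11 : T.rot 5 [4, 5, 4, 5, 4, 5, 4] (sel (ones 3125) ip5 11) = true := by decide +kernel

theorem rot5_11r : band (Rule.ok (2 * 0) EX RL ⟨5 :: [4, 5, 4, 5, 4, 5, 4], [3], 2, false⟩) (lall (memL L) [4, 5, 4, 5, 4, 5, 4]) = true := by decide +kernel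

theorem rot5_12 : T.rot 5 [8, 10, 11, 3, 11, 2, 7] (sel (ones 3125) ip5 12) = true := by decide +kernel

theorem rot5_12r : band (Rule.ok (2 * 0) EX RL ⟨5 :: [8, 10, 11, 3, 11, 2, 7], [3], 20, true⟩) (lall (memL L) [8, 10, 11, 3, 11, 2, 7]) = true := by decide +kernel

theorem rot5_13 : T.rot 5 [12, 6, 12, 9, 7, 2, 8] (sel (ones 3125) ip5 13) = true := by decide +kernel

theorem rot5_13r : band (Rule.ok (2 * 0) EX RL ⟨5 :: [12, 6, 12, 9, 7, 2, 8], [3, 1, 4, 0], 20, false⟩) (lall (memL L) [12, 6, 12, 9, 7, 2, 8]) = true := by decide +kernel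

theorem rot5_14 : T.rot 5 [6, 6, 12, 9, 9, 2, 9] (sel (ones 3125) ip5 14) = true := by decide +kernel

theorem rot5_14r : band (Rule.ok (2 * 0) EX RL ⟨5 :: [6, 6, 12, 9, 9, 2, 9], [3], 21, true⟩) (lall (memL L) [6, 6, 12, 9, 9, 2, 9]) = true := by decide +kernel

theorem rot5_15 : T.rot 5 [10, 10, 11, 3, 3, 2, 10] (sel (ones 3125) ip5 15) = true := by decide +kernel

theorem rot5_15r : band (Rule.ok (2 * 0) EX RL ⟨5 :: [10, 10, 11, 3, 3, 2, 10], [3, 3, 4, 2], 21, false⟩) (lall (memL L) [10, 10, 11, 3, 3, 2, 10]) = true := by decide +kernel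

theorem rot5_16 : T.rot 5 [4, 2, 1, 5, 4, 2, 1, 5, 4, 2, 1] (sel (ones 3125) ip5 16) = true := by decide +kernel

theorem rot5_16r : band (Rule.ok (2 * 0) EX RL ⟨5 :: [4, 2, 1, 5, 4, 2, 1, 5, 4, 2, 1], [1, 3], 4, true⟩) (lall (memL L) [4, 2, 1, 5, 4, 2, 1, 5, 4, 2, 1]) = true := by decide +kernel

theorem rot5_17 : T.rot 5 [1, 2, 4, 5, 1, 2, 4, 5, 1, 2, 4] (sel (ones 3125) ip5 17) = true := by decide +kernel

theorem rot5_17r : band (Rule.ok (2 * 0) EX RL ⟨5 :: [1, 2, 4, 5, 1, 2, 4, 5, 1, 2, 4], [3], 4, false⟩) (lall (memL L) [1, 2, 4, 5, 1, 2, 4, 5, 1, 2, 4]) = true := by decide +kernel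

theorem cov5 : T.cover 5 [(sel (ones 3125) ip5 1), (sel (ones 3125) ip5 2), (sel (ones 3125) ip5 3), (sel (ones 3125) ip5 4), (sel (ones 3125) ip5 5), (sel (ones 3125) ip5 6), (sel (ones 3125) ip5 7), (sel (ones 3125) ip5 8), (sel (ones 3125) ip5 9), (sel (ones 3125) ip5 10), (sel (ones 3125) ip5 11), (sel (ones 3125) ip5 12), (sel (ones 3125) ip5 13), (sel (ones 3125) ip5 14), (sel (ones 3125) ip5 15), (sel (ones 3125) ip5 16), (sel (ones 3125) ip5 17)] = true := by decide +kernel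

theorem tl5 : T.treeLt 12 5 = true := by decide +kernel

theorem rot6_1 : T.rot 6 [3] (sel (ones 3125) ip6 1) = true := by decide +kernel

theorem rot6_1r : band (Rule.ok (2 * 0) EX RL ⟨6 :: [3], [], 23, false⟩) (lall (memL L) [3]) = true := by decide +kernel

theorem rot6_2 : T.rot 6 [13, 3, 14] (sel (ones 3125) ip6 2) = true := by decide +kernel

theorem rot6_2r : band (Rule.ok (2 * 0) EX RL ⟨6 :: [13, 3, 14], [5], 7, true⟩) (lall (memL L) [13, 3, 14]) = true := by decide +kernel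

theorem rot6_3 : T.rot 6 [14, 3, 13] (sel (ones 3125) ip6 3) = true := by decide +kernel

theorem rot6_3r : band (Rule.ok (2 * 0) EX RL ⟨6 :: [14, 3, 13], [1, 5, 0, 5, 1, 4, 0], 7, false⟩) (lall (memL L) [14, 3, 13]) = true := by decide +kernel

theorem rot6_4 : T.rot 6 [4, 7, 1] (sel (ones 3125) ip6 4) = true := by decide +kernel

theorem rot6_4r : band (Rule.ok (2 * 0) EX RL ⟨6 :: [4, 7, 1], [], 23, false⟩) (lall (memL L) [4, 7, 1]) = true := by decide +kernel

theorem rot6_5 : T.rot 6 [5, 9, 2] (sel (ones 3125) ip6 5) = true := by decide +kernel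

theorem rot6_5r : band (Rule.ok (2 * 0) EX RL ⟨6 :: [5, 9, 2], [], 23, false⟩) (lall (memL L) [5, 9, 2]) = true := by decide +kernel

theorem rot6_6 : T.rot 6 [2, 11, 5] (sel (ones 3125) ip6 6) = true := by decide +kernel

theorem rot6_6r : band (Rule.ok (2 * 0) EX RL ⟨6 :: [2, 11, 5], [], 23, false⟩) (lall (memL L) [2, 11, 5]) = true := by decide +kernel

theorem rot6_7 : T.rot 6 [6, 6, 6, 6] (sel (ones 3125) ip6 7) = true := by decide +kernel

theorem rot6_7r : band (Rule.ok (2 * 0) EX RL ⟨6 :: [6, 6, 6, 6], [], 5, false⟩) (lall (memL L) [6, 6, 6, 6]) = true := by decide +kernel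

theorem rot6_8 : T.rot 6 [6, 1, 8, 4] (sel (ones 3125) ip6 8) = true := by decide +kernel

theorem rot6_8r : band (Rule.ok (2 * 0) EX RL ⟨6 :: [6, 1, 8, 4], [5, 5], 16, false⟩) (lall (memL L) [6, 1, 8, 4]) = true := by decide +kernel

theorem rot6_9 : T.rot 6 [1, 8, 4, 6] (sel (ones 3125) ip6 9) = true := by decide +kernel

theorem rot6_9r : band (Rule.ok (2 * 0) EX RL ⟨6 :: [1, 8, 4, 6], [5], 16, false⟩) (lall (memL L) [1, 8, 4, 6]) = true := by decide +kernel

theorem rot6_10 : T.rot 6 [14, 7, 3, 8] (sel (ones 3125) ip6 10) = true := by decide +kernel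

theorem rot6_10r : band (Rule.ok (2 * 0) EX RL ⟨6 :: [14, 7, 3, 8], [], 23, false⟩) (lall (memL L) [14, 7, 3, 8]) = true := by decide +kernel

theorem rot6_11 : T.rot 6 [8, 13, 3, 7] (sel (ones 3125) ip6 11) = true := by decide +kernel

theorem rot6_11r : band (Rule.ok (2 * 0) EX RL ⟨6 :: [8, 13, 3, 7], [], 23, false⟩) (lall (memL L) [8, 13, 3, 7]) = true := by decide +kernel

theorem rot6_12 : T.rot 6 [13, 13, 9, 3, 10] (sel (ones 3125) ip6 12) = true := by decide +kernel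

theorem rot6_12r : band (Rule.ok (2 * 0) EX RL ⟨6 :: [13, 13, 9, 3, 10], [5], 11, true⟩) (lall (memL L) [13, 13, 9, 3, 10]) = true := by decide +kernel

theorem rot6_13 : T.rot 6 [10, 14, 14, 3, 9] (sel (ones 3125) ip6 13) = true := by decide +kernel

theorem rot6_13r : band (Rule.ok (2 * 0) EX RL ⟨6 :: [10, 14, 14, 3, 9], [5, 3, 5, 2], 11, false⟩) (lall (memL L) [10, 14, 14, 3, 9]) = true := by decide +kernel

theorem rot6_14 : T.rot 6 [14, 14, 11, 3, 12] (sel (ones 3125) ip6 14) = true := by decide +kernel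

theorem rot6_14r : band (Rule.ok (2 * 0) EX RL ⟨6 :: [14, 14, 11, 3, 12], [5], 12, true⟩) (lall (memL L) [14, 14, 11, 3, 12]) = true := by decide +kernel

theorem rot6_15 : T.rot 6 [12, 13, 13, 3, 11] (sel (ones 3125) ip6 15) = true := by decide +kernel

theorem rot6_15r : band (Rule.ok (2 * 0) EX RL ⟨6 :: [12, 13, 13, 3, 11], [5, 2, 5, 3], 12, false⟩) (lall (memL L) [12, 13, 13, 3, 11]) = true := by decide +kernel

theorem rot6_16 : T.rot 6 [12, 1, 9, 4, 9, 9] (sel (ones 3125) ip6 16) = true := by decide +kernel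

theorem rot6_16r : band (Rule.ok (2 * 0) EX RL ⟨6 :: [12, 1, 9, 4, 9, 9], [3, 5, 5, 2], 17, true⟩) (lall (memL L) [12, 1, 9, 4, 9, 9]) = true := by decide +kernel

theorem rot6_17 : T.rot 6 [12, 9, 7, 2, 8, 5, 12] (sel (ones 3125) ip6 17) = true := by decide +kernel

theorem rot6_17r : band (Rule.ok (2 * 0) EX RL ⟨6 :: [12, 9, 7, 2, 8, 5, 12], [3, 1, 4, 0, 2, 2, 4, 3], 20, false⟩) (lall (memL L) [12, 9, 7, 2, 8, 5, 12]) = true := by decide +kernel

theorem rot6_18 : T.rot 6 [6, 12, 9, 9, 2, 9, 5] (sel (ones 3125) ip6 18) = true := by decide +kernel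

theorem rot6_18r : band (Rule.ok (2 * 0) EX RL ⟨6 :: [6, 12, 9, 9, 2, 9, 5], [], 21, true⟩) (lall (memL L) [6, 12, 9, 9, 2, 9, 5]) = true := by decide +kernel

theorem rot6_19 : T.rot 6 [12, 9, 9, 2, 9, 5, 6] (sel (ones 3125) ip6 19) = true := by decide +kernel

theorem rot6_19r : band (Rule.ok (2 * 0) EX RL ⟨6 :: [12, 9, 9, 2, 9, 5, 6], [4], 21, true⟩) (lall (memL L) [12, 9, 9, 2, 9, 5, 6]) = true := by decide +kernel

theorem rot6_20 : T.rot 6 [7, 9, 12, 6, 12, 1, 11, 4] (sel (ones 3125) ip6 20) = true := by decide +kernel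

theorem rot6_20r : band (Rule.ok (2 * 0) EX RL ⟨6 :: [7, 9, 12, 6, 12, 1, 11, 4], [], 18, true⟩) (lall (memL L) [7, 9, 12, 6, 12, 1, 11, 4]) = true := by decide +kernel

theorem rot6_21 : T.rot 6 [12, 1, 11, 4, 6, 7, 9, 12] (sel (ones 3125) ip6 21) = true := by decide +kernel

theorem rot6_21r : band (Rule.ok (2 * 0) EX RL ⟨6 :: [12, 1, 11, 4, 6, 7, 9, 12], [1, 2, 4, 3, 0, 2, 5, 3, 5], 18, true⟩) (lall (memL L) [12, 1, 11, 4, 6, 7, 9, 12]) = true := by decide +kernel

theorem cov6 : T.cover 6 [(sel (ones 3125) ip6 1), (sel (ones 3125) ip6 2), (sel (ones 3125) ip6 3), (sel (ones 3125) ip6 4), (sel (ones 3125) ip6 5), (sel (ones 3125) ip6 6), (sel (ones 3125) ip6 7), (sel (ones 3125) ip6 8), (sel (ones 3125) ip6 9), (sel (ones 3125) ip6 10), (sel (ones 3125) ip6 11), (sel (ones 3125) ip6 12), (sel (ones 3125) ip6 13), (sel (ones 3125) ip6 14), (sel (ones 3125) ip6 15), (sel (ones 3125) ip6 16), (sel (ones 3125) ip6 17), (sel (ones 3125)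 ip6 18), (sel (ones 3125) ip6 19), (sel (ones 3125) ip6 20), (sel (ones 3125) ip6 21)] = true := by decide +kernel

theorem tl6 : T.treeLt 12 6 = true := by decide +kernel

theorem rot7_1 : T.rot 7 [8] (sel (ones 3125) ip7 1) = true := by decide +kernel

theorem rot7_1r : band (Rule.ok (2 * 0) EX RL ⟨7 :: [8], [], 23, false⟩) (lall (memL L) [8]) = true := by decide +kernel

theorem rot7_2 : T.rot 7 [14, 8, 13] (sel (ones 3125) ip7 2) = true := by decide +kernel

theorem rot7_2r : band (Rule.ok (2 * 0) EX RL ⟨7 :: [14, 8, 13], [1, 5, 0, 5, 1, 4, 0, 4], 8, true⟩) (lall (memL L) [14, 8, 13]) = true := by decide +kernel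

theorem rot7_3 : T.rot 7 [13, 8, 14] (sel (ones 3125) ip7 3) = true := by decide +kernel

theorem rot7_3r : band (Rule.ok (2 * 0) EX RL ⟨7 :: [13, 8, 14], [], 8, false⟩) (lall (memL L) [13, 8, 14]) = true := by decide +kernel

theorem rot7_4 : T.rot 7 [12, 8, 11] (sel (ones 3125) ip7 4) = true := by decide +kernel

theorem rot7_4r : band (Rule.ok (2 * 0) EX RL ⟨7 :: [12, 8, 11], [2, 5, 3], 14, true⟩) (lall (memL L) [12, 8, 11]) = true := by decide +kernel

theorem rot7_5 : T.rot 7 [11, 8, 12] (sel (ones 3125) ip7 5) = true := by decide +kernel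

theorem rot7_5r : band (Rule.ok (2 * 0) EX RL ⟨7 :: [11, 8, 12], [], 14, false⟩) (lall (memL L) [11, 8, 12]) = true := by decide +kernel

theorem rot7_6 : T.rot 7 [1, 6, 4] (sel (ones 3125) ip7 6) = true := by decide +kernel

theorem rot7_6r : band (Rule.ok (2 * 0) EX RL ⟨7 :: [1, 6, 4], [], 23, false⟩) (lall (memL L) [1, 6, 4]) = true := by decide +kernel

theorem rot7_7 : T.rot 7 [10, 8, 13, 9] (sel (ones 3125) ip7 7) = true := by decide +kernel

theorem rot7_7r : band (Rule.ok (2 * 0) EX RL ⟨7 :: [10, 8, 13, 9], [1, 5, 0, 3, 5, 2, 1, 4, 0], 13, true⟩) (lall (memL L) [10, 8, 13, 9]) = true := by decide +kernel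

theorem rot7_8 : T.rot 7 [9, 8, 10, 14] (sel (ones 3125) ip7 8) = true := by decide +kernel

theorem rot7_8r : band (Rule.ok (2 * 0) EX RL ⟨7 :: [9, 8, 10, 14], [], 13, false⟩) (lall (memL L) [9, 8, 10, 14]) = true := by decide +kernel

theorem rot7_9 : T.rot 7 [4, 3, 3, 1] (sel (ones 3125) ip7 9) = true := by decide +kernel

theorem rot7_9r : band (Rule.ok (2 * 0) EX RL ⟨7 :: [4, 3, 3, 1], [5, 5, 1], 16, true⟩) (lall (memL L) [4, 3, 3, 1]) = true := by decide +kernel

theorem rot7_10 : T.rot 7 [3, 8, 6, 14] (sel (ones 3125) ip7 10) = true := by decide +kernel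

theorem rot7_10r : band (Rule.ok (2 * 0) EX RL ⟨7 :: [3, 8, 6, 14], [], 23, false⟩) (lall (memL L) [3, 8, 6, 14]) = true := by decide +kernel

theorem rot7_11 : T.rot 7 [6, 8, 13, 3] (sel (ones 3125) ip7 11) = true := by decide +kernel

theorem rot7_11r : band (Rule.ok (2 * 0) EX RL ⟨7 :: [6, 8, 13, 3], [], 23, false⟩) (lall (memL L) [6, 8, 13, 3]) = true := by decide +kernel

theorem rot7_12 : T.rot 7 [5, 8, 10, 11, 3, 11, 2] (sel (ones 3125) ip7 12) = true := by decide +kernel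

theorem rot7_12r : band (Rule.ok (2 * 0) EX RL ⟨7 :: [5, 8, 10, 11, 3, 11, 2], [3, 1, 4, 0], 20, true⟩) (lall (memL L) [5, 8, 10, 11, 3, 11, 2]) = true := by decide +kernel

theorem rot7_13 : T.rot 7 [2, 8, 5, 12, 6, 12, 9] (sel (ones 3125) ip7 13) = true := by decide +kernel

theorem rot7_13r : band (Rule.ok (2 * 0) EX RL ⟨7 :: [2, 8, 5, 12, 6, 12, 9], [1, 4, 0], 20, false⟩) (lall (memL L) [2, 8, 5, 12, 6, 12, 9]) = true := by decide +kernel

theorem rot7_14 : T.rot 7 [9, 12, 6, 12, 1, 11, 4, 6] (sel (ones 3125) ip7 14) = true := by decide +kernel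

theorem rot7_14r : band (Rule.ok (2 * 0) EX RL ⟨7 :: [9, 12, 6, 12, 1, 11, 4, 6], [4], 18, true⟩) (lall (memL L) [9, 12, 6, 12, 1, 11, 4, 6]) = true := by decide +kernel

theorem cov7 : T.cover 7 [(sel (ones 3125) ip7 1), (sel (ones 3125) ip7 2), (sel (ones 3125) ip7 3), (sel (ones 3125) ip7 4), (sel (ones 3125) ip7 5), (sel (ones 3125) ip7 6), (sel (ones 3125) ip7 7), (sel (ones 3125) ip7 8), (sel (ones 3125) ip7 9), (sel (ones 3125) ip7 10), (sel (ones 3125) ip7 11), (sel (ones 3125) ip7 12), (sel (ones 3125) ip7 13), (sel (ones 3125) ip7 14)] = true := by decide +kernel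

theorem tl7 : Nat.beq (T.let 7).tt 0 = true := by decide +kernel

theorem rot8_1 : T.rot 8 [7] (sel (ones 3125) ip8 1) = true := by decide +kernel

theorem rot8_1r : band (Rule.ok (2 * 0) EX RL ⟨8 :: [7], [], 23, false⟩) (lall (memL L) [7]) = true := by decide +kernel

theorem rot8_2 : T.rot 8 [13, 7, 14] (sel (ones 3125) ip8 2) = true := by decide +kernel

theorem rot8_2r : band (Rule.ok (2 * 0) EX RL ⟨8 :: [13, 7, 14], [1, 5, 0], 8, true⟩) (lall (memL L) [13, 7, 14]) = true := by decide +kernel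

theorem rot8_3 : T.rot 8 [14, 7, 13] (sel (ones 3125) ip8 3) = true := by decide +kernel

theorem rot8_3r : band (Rule.ok (2 * 0) EX RL ⟨8 :: [14, 7, 13], [1, 5, 5, 0, 5, 1, 4, 0, 4], 8, false⟩) (lall (memL L) [14, 7, 13]) = true := by decide +kernel

theorem rot8_4 : T.rot 8 [11, 7, 12] (sel (ones 3125) ip8 4) = true := by decide +kernel

theorem rot8_4r : band (Rule.ok (2 * 0) EX RL ⟨8 :: [11, 7, 12], [1, 5, 0], 14, true⟩) (lall (memL L) [11, 7, 12]) = true := by decide +kernel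

theorem rot8_5 : T.rot 8 [12, 7, 11] (sel (ones 3125) ip8 5) = true := by decide +kernel

theorem rot8_5r : band (Rule.ok (2 * 0) EX RL ⟨8 :: [12, 7, 11], [2, 5, 3, 1, 5, 0], 14, false⟩) (lall (memL L) [12, 7, 11]) = true := by decide +kernel

theorem rot8_6 : T.rot 8 [1, 3, 4] (sel (ones 3125) ip8 6) = true := by decide +kernel

theorem rot8_6r : band (Rule.ok (2 * 0) EX RL ⟨8 :: [1, 3, 4], [], 23, false⟩) (lall (memL L) [1, 3, 4]) = true := by decide +kernel

theorem rot8_7 : T.rot 8 [13, 9, 7, 10] (sel (ones 3125) ip8 7) = true := by decide +kernel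

theorem rot8_7r : band (Rule.ok (2 * 0) EX RL ⟨8 :: [13, 9, 7, 10], [1, 5, 0], 13, true⟩) (lall (memL L) [13, 9, 7, 10]) = true := by decide +kernel

theorem rot8_8 : T.rot 8 [10, 14, 7, 9] (sel (ones 3125) ip8 8) = true := by decide +kernel

theorem rot8_8r : band (Rule.ok (2 * 0) EX RL ⟨8 :: [10, 14, 7, 9], [1, 5, 0, 3, 5, 2], 13, false⟩) (lall (memL L) [10, 14, 7, 9]) = true := by decide +kernel

theorem rot8_9 : T.rot 8 [4, 6, 6, 1] (sel (ones 3125) ip8 9) = true := by decide +kernel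

theorem rot8_9r : band (Rule.ok (2 * 0) EX RL ⟨8 :: [4, 6, 6, 1], [1], 16, false⟩) (lall (memL L) [4, 6, 6, 1]) = true := by decide +kernel

theorem rot8_10 : T.rot 8 [6, 14, 7, 3] (sel (ones 3125) ip8 10) = true := by decide +kernel

theorem rot8_10r : band (Rule.ok (2 * 0) EX RL ⟨8 :: [6, 14, 7, 3], [], 23, false⟩) (lall (memL L) [6, 14, 7, 3]) = true := by decide +kernel

theorem rot8_11 : T.rot 8 [13, 3, 7, 6] (sel (ones 3125) ip8 11) = true := by decide +kernel

theorem rot8_11r : band (Rule.ok (2 * 0) EX RL ⟨8 :: [13, 3, 7, 6], [], 23, false⟩) (lall (memL L) [13, 3, 7, 6]) = true := by decide +kernel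

theorem rot8_12 : T.rot 8 [10, 11, 3, 11, 2, 7, 5] (sel (ones 3125) ip8 12) = true := by decide +kernel

theorem rot8_12r : band (Rule.ok (2 * 0) EX RL ⟨8 :: [10, 11, 3, 11, 2, 7, 5], [], 20, true⟩) (lall (memL L) [10, 11, 3, 11, 2, 7, 5]) = true := by decide +kernel

theorem rot8_13 : T.rot 8 [5, 12, 6, 12, 9, 7, 2] (sel (ones 3125) ip8 13) = true := by decide +kernel

theorem rot8_13r : band (Rule.ok (2 * 0) EX RL ⟨8 :: [5, 12, 6, 12, 9, 7, 2], [3], 20, false⟩) (lall (memL L) [5, 12, 6, 12, 9, 7, 2]) = true := by decide +kernel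

theorem rot8_14 : T.rot 8 [3, 1, 12, 4, 11, 3, 11, 10] (sel (ones 3125) ip8 14) = true := by decide +kernel

theorem rot8_14r : band (Rule.ok (2 * 0) EX RL ⟨8 :: [3, 1, 12, 4, 11, 3, 11, 10], [4, 1, 5, 0], 18, false⟩) (lall (memL L) [3, 1, 12, 4, 11, 3, 11, 10]) = true := by decide +kernel

theorem cov8 : T.cover 8 [(sel (ones 3125) ip8 1), (sel (ones 3125) ip8 2), (sel (ones 3125) ip8 3), (sel (ones 3125) ip8 4), (sel (ones 3125) ip8 5), (sel (ones 3125) ip8 6), (sel (ones 3125) ip8 7), (sel (ones 3125) ip8 8), (sel (ones 3125) ip8 9), (sel (ones 3125) ip8 10), (sel (ones 3125) ip8 11), (sel (ones 3125) ip8 12), (sel (ones 3125) ip8 13), (sel (ones 3125) ip8 14)] = true := by decide +kernel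

theorem tl8 : Nat.beq (T.let 8).tt 0 = true := by decide +kernel

theorem rot9_1 : T.rot 9 [10] (sel (ones 3125) ip9 1) = true := by decide +kernel

theorem rot9_1r : band (Rule.ok (2 * 0) EX RL ⟨9 :: [10], [], 23, false⟩) (lall (memL L) [10]) = true := by decide +kernel

theorem rot9_2 : T.rot 9 [14, 10, 13] (sel (ones 3125) ip9 2) = true := by decide +kernel

theorem rot9_2r : band (Rule.ok (2 * 0) EX RL ⟨9 :: [14, 10, 13], [1, 5, 0, 5, 1, 4, 0, 4], 9, true⟩) (lall (memL L) [14, 10, 13]) = true := by decide +kernel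

theorem rot9_3 : T.rot 9 [13, 10, 14] (sel (ones 3125) ip9 3) = true := by decide +kernel

theorem rot9_3r : band (Rule.ok (2 * 0) EX RL ⟨9 :: [13, 10, 14], [], 9, false⟩) (lall (memL L) [13, 10, 14]) = true := by decide +kernel

theorem rot9_4 : T.rot 9 [2, 6, 5] (sel (ones 3125) ip9 4) = true := by decide +kernel

theorem rot9_4r : band (Rule.ok (2 * 0) EX RL ⟨9 :: [2, 6, 5], [], 23, false⟩) (lall (memL L) [2, 6, 5]) = true := by decide +kernel

theorem rot9_5 : T.rot 9 [7, 10, 8, 13] (sel (ones 3125) ip9 5) = true := by decide +kernel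

theorem rot9_5r : band (Rule.ok (2 * 0) EX RL ⟨9 :: [7, 10, 8, 13], [1, 5, 0, 5, 1, 4, 0, 4], 13, true⟩) (lall (memL L) [7, 10, 8, 13]) = true := by decide +kernel

theorem rot9_6 : T.rot 9 [8, 10, 14, 7] (sel (ones 3125) ip9 6) = true := by decide +kernel

theorem rot9_6r : band (Rule.ok (2 * 0) EX RL ⟨9 :: [8, 10, 14, 7], [1, 5, 0], 13, false⟩) (lall (memL L) [8, 10, 14, 7]) = true := by decide +kernel

theorem rot9_7 : T.rot 9 [12, 10, 13, 11] (sel (ones 3125) ip9 7) = true := by decide +kernel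

theorem rot9_7r : band (Rule.ok (2 * 0) EX RL ⟨9 :: [12, 10, 13, 11], [3, 5, 2, 2, 5, 3, 3, 4, 2], 15, true⟩) (lall (memL L) [12, 10, 13, 11]) = true := by decide +kernel

theorem rot9_8 : T.rot 9 [11, 10, 12, 14] (sel (ones 3125) ip9 8) = true := by decide +kernel

theorem rot9_8r : band (Rule.ok (2 * 0) EX RL ⟨9 :: [11, 10, 12, 14], [], 15, false⟩) (lall (memL L) [11, 10, 12, 14]) = true := by decide +kernel

theorem rot9_9 : T.rot 9 [3, 10, 6, 13, 13] (sel (ones 3125) ip9 9) = true := by decide +kernel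

theorem rot9_9r : band (Rule.ok (2 * 0) EX RL ⟨9 :: [3, 10, 6, 13, 13], [5, 3, 5, 2, 4, 3, 4, 2], 11, true⟩) (lall (memL L) [3, 10, 6, 13, 13]) = true := by decide +kernel

theorem rot9_10 : T.rot 9 [6, 10, 14, 14, 3] (sel (ones 3125) ip9 10) = true := by decide +kernel

theorem rot9_10r : band (Rule.ok (2 * 0) EX RL ⟨9 :: [6, 10, 14, 14, 3], [5], 11, false⟩) (lall (memL L) [6, 10, 14, 14, 3]) = true := by decide +kernel

theorem rot9_11 : T.rot 9 [9, 6, 12, 1, 9, 4] (sel (ones 3125) ip9 11) = true := by decide +kernel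

theorem rot9_11r : band (Rule.ok (2 * 0) EX RL ⟨9 :: [9, 6, 12, 1, 9, 4], [], 17, true⟩) (lall (memL L) [9, 6, 12, 1, 9, 4]) = true := by decide +kernel

theorem rot9_12 : T.rot 9 [6, 12, 1, 9, 4, 9] (sel (ones 3125) ip9 12) = true := by decide +kernel

theorem rot9_12r : band (Rule.ok (2 * 0) EX RL ⟨9 :: [6, 12, 1, 9, 4, 9], [3, 5, 2], 17, true⟩) (lall (memL L) [6, 12, 1, 9, 4, 9]) = true := by decide +kernel

theorem rot9_13 : T.rot 9 [4, 9, 9, 6, 12, 1] (sel (ones 3125) ip9 13) = true := by decide +kernel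

theorem rot9_13r : band (Rule.ok (2 * 0) EX RL ⟨9 :: [4, 9, 9, 6, 12, 1], [1, 3, 4, 2], 17, true⟩) (lall (memL L) [4, 9, 9, 6, 12, 1]) = true := by decide +kernel

theorem rot9_14 : T.rot 9 [7, 2, 8, 5, 12, 6, 12] (sel (ones 3125) ip9 14) = true := by decide +kernel

theorem rot9_14r : band (Rule.ok (2 * 0) EX RL ⟨9 :: [7, 2, 8, 5, 12, 6, 12], [1, 4, 0, 3, 4, 2], 20, false⟩) (lall (memL L) [7, 2, 8, 5, 12, 6, 12]) = true := by decide +kernel

theorem rot9_15 : T.rot 9 [9, 2, 9, 5, 6, 6, 12] (sel (ones 3125) ip9 15) = true := by decide +kernel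

theorem rot9_15r : band (Rule.ok (2 * 0) EX RL ⟨9 :: [9, 2, 9, 5, 6, 6, 12], [4, 4, 2, 4, 3], 21, true⟩) (lall (memL L) [9, 2, 9, 5, 6, 6, 12]) = true := by decide +kernel

theorem rot9_16 : T.rot 9 [2, 9, 5, 6, 6, 12, 9] (sel (ones 3125) ip9 16) = true := by decide +kernel

theorem rot9_16r : band (Rule.ok (2 * 0) EX RL ⟨9 :: [2, 9, 5, 6, 6, 12, 9], [3, 3, 4, 2, 4, 2], 21, true⟩) (lall (memL L) [2, 9, 5, 6, 6, 12, 9]) = true := by decide +kernel

theorem rot9_17 : T.rot 9 [5, 6, 6, 12, 9, 9, 2] (sel (ones 3125) ip9 17) = true := by decide +kernel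

theorem rot9_17r : band (Rule.ok (2 * 0) EX RL ⟨9 :: [5, 6, 6, 12, 9, 9, 2], [3, 3, 4, 2], 21, true⟩) (lall (memL L) [5, 6, 6, 12, 9, 9, 2]) = true := by decide +kernel

theorem rot9_18 : T.rot 9 [12, 6, 12, 1, 11, 4, 6, 7] (sel (ones 3125) ip9 18) = true := by decide +kernel

theorem rot9_18r : band (Rule.ok (2 * 0) EX RL ⟨9 :: [12, 6, 12, 1, 11, 4, 6, 7], [4, 1, 5, 0], 18, true⟩) (lall (memL L) [12, 6, 12, 1, 11, 4, 6, 7]) = true := by decide +kernel

theorem cov9 : T.cover 9 [(sel (ones 3125) ip9 1), (sel (ones 3125) ip9 2), (sel (ones 3125) ip9 3), (sel (ones 3125) ip9 4), (sel (ones 3125) ip9 5), (sel (ones 3125) ip9 6), (sel (ones 3125) ip9 7), (sel (ones 3125) ip9 8), (sel (ones 3125) ip9 9), (sel (ones 3125) ip9 10), (sel (ones 3125) ip9 11), (sel (ones 3125) ip9 12), (sel (ones 3125) ip9 13), (sel (ones 3125) ip9 14), (sel (ones 3125) ip9 15), (sel (ones 3125) ip9 16), (sel (ones 3125) ip9 17), (sel (ones 3125) ip9 18)] = true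 := by decide +kernel

theorem tl9 : Nat.beq (T.let 9).tt 0 = true := by decide +kernel

theorem rot10_1 : T.rot 10 [9] (sel (ones 3125) ip10 1) = true := by decide +kernel

theorem rot10_1r : band (Rule.ok (2 * 0) EX RL ⟨10 :: [9], [], 23, false⟩) (lall (memL L) [9]) = true := by decide +kernel

theorem rot10_2 : T.rot 10 [13, 9, 14] (sel (ones 3125) ip10 2) = true := by decide +kernel

theorem rot10_2r : band (Rule.ok (2 * 0) EX RL ⟨10 :: [13, 9, 14], [3, 5, 2], 9, true⟩) (lall (memL L) [13, 9, 14]) = true := by decide +kernel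

theorem rot10_3 : T.rot 10 [14, 9, 13] (sel (ones 3125) ip10 3) = true := by decide +kernel

theorem rot10_3r : band (Rule.ok (2 * 0) EX RL ⟨10 :: [14, 9, 13], [1, 5, 0, 5, 1, 4, 0, 4, 3, 5, 2], 9, false⟩) (lall (memL L) [14, 9, 13]) = true := by decide +kernel

theorem rot10_4 : T.rot 10 [2, 3, 5] (sel (ones 3125) ip10 4) = true := by decide +kernel

theorem rot10_4r : band (Rule.ok (2 * 0) EX RL ⟨10 :: [2, 3, 5], [], 23, false⟩) (lall (memL L) [2, 3, 5]) = true := by decide +kernel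

theorem rot10_5 : T.rot 10 [8, 13, 9, 7] (sel (ones 3125) ip10 5) = true := by decide +kernel

theorem rot10_5r : band (Rule.ok (2 * 0) EX RL ⟨10 :: [8, 13, 9, 7], [1, 5, 0, 3, 5, 2], 13, true⟩) (lall (memL L) [8, 13, 9, 7]) = true := by decide +kernel

theorem rot10_6 : T.rot 10 [14, 7, 9, 8] (sel (ones 3125) ip10 6) = true := by decide +kernel

theorem rot10_6r : band (Rule.ok (2 * 0) EX RL ⟨10 :: [14, 7, 9, 8], [1, 5, 0, 3, 5, 2, 1, 4, 0], 13, false⟩) (lall (memL L) [14, 7, 9, 8]) = true := by decide +kernel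

theorem rot10_7 : T.rot 10 [13, 11, 9, 12] (sel (ones 3125) ip10 7) = true := by decide +kernel

theorem rot10_7r : band (Rule.ok (2 * 0) EX RL ⟨10 :: [13, 11, 9, 12], [3, 5, 2], 15, true⟩) (lall (memL L) [13, 11, 9, 12]) = true := by decide +kernel

theorem rot10_8 : T.rot 10 [12, 14, 9, 11] (sel (ones 3125) ip10 8) = true := by decide +kernel

theorem rot10_8r : band (Rule.ok (2 * 0) EX RL ⟨10 :: [12, 14, 9, 11], [3, 5, 2, 2, 5, 3], 15, false⟩) (lall (memL L) [12, 14, 9, 11]) = true := by decide +kernel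

theorem rot10_9 : T.rot 10 [6, 13, 13, 9, 3] (sel (ones 3125) ip10 9) = true := by decide +kernel

theorem rot10_9r : band (Rule.ok (2 * 0) EX RL ⟨10 :: [6, 13, 13, 9, 3], [5, 3, 5, 2], 11, true⟩) (lall (memL L) [6, 13, 13, 9, 3]) = true := by decide +kernel

theorem rot10_10 : T.rot 10 [14, 14, 3, 9, 6] (sel (ones 3125) ip10 10) = true := by decide +kernel

theorem rot10_10r : band (Rule.ok (2 * 0) EX RL ⟨10 :: [14, 14, 3, 9, 6], [5, 3, 5, 2, 4], 11, false⟩) (lall (memL L) [14, 14, 3, 9, 6]) = true := by decide +kernel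

theorem rot10_11 : T.rot 10 [4, 11, 3, 10, 10, 1] (sel (ones 3125) ip10 11) = true := by decide +kernel

theorem rot10_11r : band (Rule.ok (2 * 0) EX RL ⟨10 :: [4, 11, 3, 10, 10, 1], [1], 17, false⟩) (lall (memL L) [4, 11, 3, 10, 10, 1]) = true := by decide +kernel

theorem rot10_12 : T.rot 10 [10, 1, 10, 4, 11, 3] (sel (ones 3125) ip10 12) = true := by decide +kernel

theorem rot10_12r : band (Rule.ok (2 * 0) EX RL ⟨10 :: [10, 1, 10, 4, 11, 3], [3, 5, 5, 2], 17, false⟩) (lall (memL L) [10, 1, 10, 4, 11, 3]) = true := by decide +kernel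

theorem rot10_13 : T.rot 10 [1, 10, 4, 11, 3, 10] (sel (ones 3125) ip10 13) = true := by decide +kernel

theorem rot10_13r : band (Rule.ok (2 * 0) EX RL ⟨10 :: [1, 10, 4, 11, 3, 10], [3, 5, 2], 17, false⟩) (lall (memL L) [1, 10, 4, 11, 3, 10]) = true := by decide +kernel

theorem rot10_14 : T.rot 10 [11, 3, 11, 2, 7, 5, 8] (sel (ones 3125) ip10 14) = true := by decide +kernel

theorem rot10_14r : band (Rule.ok (2 * 0) EX RL ⟨10 :: [11, 3, 11, 2, 7, 5, 8], [1, 4, 0], 20, true⟩) (lall (memL L) [11, 3, 11, 2, 7, 5, 8]) = true := by decide +kernel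

theorem rot10_15 : T.rot 10 [5, 10, 10, 11, 3, 3, 2] (sel (ones 3125) ip10 15) = true := by decide +kernel

theorem rot10_15r : band (Rule.ok (2 * 0) EX RL ⟨10 :: [5, 10, 10, 11, 3, 3, 2], [3], 21, false⟩) (lall (memL L) [5, 10, 10, 11, 3, 3, 2]) = true := by decide +kernel

theorem rot10_16 : T.rot 10 [10, 11, 3, 3, 2, 10, 5] (sel (ones 3125) ip10 16) = true := by decide +kernel

theorem rot10_16r : band (Rule.ok (2 * 0) EX RL ⟨10 :: [10, 11, 3, 3, 2, 10, 5], [3, 3, 4, 2, 2], 21, false⟩) (lall (memL L) [10, 11, 3, 3, 2, 10, 5]) = true := by decide +kernel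

theorem rot10_17 : T.rot 10 [11, 3, 3, 2, 10, 5, 10] (sel (ones 3125) ip10 17) = true := by decide +kernel

theorem rot10_17r : band (Rule.ok (2 * 0) EX RL ⟨10 :: [11, 3, 3, 2, 10, 5, 10], [3, 3, 4, 2, 4, 2], 21, false⟩) (lall (memL L) [11, 3, 3, 2, 10, 5, 10]) = true := by decide +kernel

theorem rot10_18 : T.rot 10 [8, 3, 1, 12, 4, 11, 3, 11] (sel (ones 3125) ip10 18) = true := by decide +kernel

theorem rot10_18r : band (Rule.ok (2 * 0) EX RL ⟨10 :: [8, 3, 1, 12, 4, 11, 3, 11], [4, 1, 5, 0, 3, 5, 2], 18, false⟩) (lall (memL L) [8, 3, 1, 12, 4, 11, 3, 11]) = true := by decide +kernel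

theorem cov10 : T.cover 10 [(sel (ones 3125) ip10 1), (sel (ones 3125) ip10 2), (sel (ones 3125) ip10 3), (sel (ones 3125) ip10 4), (sel (ones 3125) ip10 5), (sel (ones 3125) ip10 6), (sel (ones 3125) ip10 7), (sel (ones 3125) ip10 8), (sel (ones 3125) ip10 9), (sel (ones 3125) ip10 10), (sel (ones 3125) ip10 11), (sel (ones 3125) ip10 12), (sel (ones 3125) ip10 13), (sel (ones 3125) ip10 14), (sel (ones 3125) ip10 15), (sel (ones 3125) ip10 16), (sel (ones 3125) ip10 17), (sel (ones 3125) ip10 18)] = true := by decide +kernel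

theorem tl10 : Nat.beq (T.let 10).tt 0 = true := by decide +kernel

theorem rot11_1 : T.rot 11 [12] (sel (ones 3125) ip11 1) = true := by decide +kernel

theorem rot11_1r : band (Rule.ok (2 * 0) EX RL ⟨11 :: [12], [], 23, false⟩) (lall (memL L) [12]) = true := by decide +kernel

theorem rot11_2 : T.rot 11 [14, 12, 13] (sel (ones 3125) ip11 2) = true := by decide +kernel

theorem rot11_2r : band (Rule.ok (2 * 0) EX RL ⟨11 :: [14, 12, 13], [1, 5, 0, 5, 1, 4, 0, 4], 10, true⟩) (lall (memL L) [14, 12, 13]) = true := by decide +kernel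

theorem rot11_3 : T.rot 11 [13, 12, 14] (sel (ones 3125) ip11 3) = true := by decide +kernel

theorem rot11_3r : band (Rule.ok (2 * 0) EX RL ⟨11 :: [13, 12, 14], [], 10, false⟩) (lall (memL L) [13, 12, 14]) = true := by decide +kernel

theorem rot11_4 : T.rot 11 [7, 12, 8] (sel (ones 3125) ip11 4) = true := by decide +kernel

theorem rot11_4r : band (Rule.ok (2 * 0) EX RL ⟨11 :: [7, 12, 8], [], 14, true⟩) (lall (memL L) [7, 12, 8]) = true := by decide +kernel

theorem rot11_5 : T.rot 11 [8, 12, 7] (sel (ones 3125) ip11 5) = true := by decide +kernel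

theorem rot11_5r : band (Rule.ok (2 * 0) EX RL ⟨11 :: [8, 12, 7], [1, 5, 0], 14, false⟩) (lall (memL L) [8, 12, 7]) = true := by decide +kernel

theorem rot11_6 : T.rot 11 [5, 6, 2] (sel (ones 3125) ip11 6) = true := by decide +kernel

theorem rot11_6r : band (Rule.ok (2 * 0) EX RL ⟨11 :: [5, 6, 2], [], 23, false⟩) (lall (memL L) [5, 6, 2]) = true := by decide +kernel

theorem rot11_7 : T.rot 11 [9, 12, 10, 13] (sel (ones 3125) ip11 7) = true := by decide +kernel

theorem rot11_7r : band (Rule.ok (2 * 0) EX RL ⟨11 :: [9, 12, 10, 13], [1, 5, 0, 5, 1, 4, 0, 4], 15, true⟩) (lall (memL L) [9, 12, 10, 13]) = true := by decide +kernel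

theorem rot11_8 : T.rot 11 [10, 12, 14, 9] (sel (ones 3125) ip11 8) = true := by decide +kernel

theorem rot11_8r : band (Rule.ok (2 * 0) EX RL ⟨11 :: [10, 12, 14, 9], [3, 5, 2], 15, false⟩) (lall (memL L) [10, 12, 14, 9]) = true := by decide +kernel

theorem rot11_9 : T.rot 11 [3, 12, 6, 14, 14] (sel (ones 3125) ip11 9) = true := by decide +kernel

theorem rot11_9r : band (Rule.ok (2 * 0) EX RL ⟨11 :: [3, 12, 6, 14, 14], [5, 2, 5, 3, 4, 2, 4, 3], 12, true⟩) (lall (memL L) [3, 12, 6, 14, 14]) = true := by decide +kernel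

theorem rot11_10 : T.rot 11 [6, 12, 13, 13, 3] (sel (ones 3125) ip11 10) = true := by decide +kernel

theorem rot11_10r : band (Rule.ok (2 * 0) EX RL ⟨11 :: [6, 12, 13, 13, 3], [5], 12, false⟩) (lall (memL L) [6, 12, 13, 13, 3]) = true := by decide +kernel

theorem rot11_11 : T.rot 11 [3, 10, 10, 1, 10, 4] (sel (ones 3125) ip11 11) = true := by decide +kernel

theorem rot11_11r : band (Rule.ok (2 * 0) EX RL ⟨11 :: [3, 10, 10, 1, 10, 4], [1, 3, 4, 2, 0], 17, false⟩) (lall (memL L) [3, 10, 10, 1, 10, 4]) = true := by decide +kernel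

theorem rot11_12 : T.rot 11 [3, 11, 2, 7, 5, 8, 10] (sel (ones 3125) ip11 12) = true := by decide +kernel

theorem rot11_12r : band (Rule.ok (2 * 0) EX RL ⟨11 :: [3, 11, 2, 7, 5, 8, 10], [1, 4, 0, 3, 4, 2], 20, true⟩) (lall (memL L) [3, 11, 2, 7, 5, 8, 10]) = true := by decide +kernel

theorem rot11_13 : T.rot 11 [2, 7, 5, 8, 10, 11, 3] (sel (ones 3125) ip11 13) = true := by decide +kernel

theorem rot11_13r : band (Rule.ok (2 * 0) EX RL ⟨11 :: [2, 7, 5, 8, 10, 11, 3], [3, 1, 4, 0, 2, 2, 4, 3], 20, true⟩) (lall (memL L) [2, 7, 5, 8, 10, 11, 3]) = true := by decide +kernel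

theorem rot11_14 : T.rot 11 [3, 3, 2, 10, 5, 10, 10] (sel (ones 3125) ip11 14) = true := by decide +kernel

theorem rot11_14r : band (Rule.ok (2 * 0) EX RL ⟨11 :: [3, 3, 2, 10, 5, 10, 10], [4, 4, 2, 4, 3], 21, false⟩) (lall (memL L) [3, 3, 2, 10, 5, 10, 10]) = true := by decide +kernel

theorem rot11_15 : T.rot 11 [4, 6, 7, 9, 12, 6, 12, 1] (sel (ones 3125) ip11 15) = true := by decide +kernel

theorem rot11_15r : band (Rule.ok (2 * 0) EX RL ⟨11 :: [4, 6, 7, 9, 12, 6, 12, 1], [1, 2, 4, 3], 18, true⟩) (lall (memL L) [4, 6, 7, 9, 12, 6, 12, 1]) = true := by decide +kernel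

theorem rot11_16 : T.rot 11 [3, 11, 10, 8, 3, 1, 12, 4] (sel (ones 3125) ip11 16) = true := by decide +kernel

theorem rot11_16r : band (Rule.ok (2 * 0) EX RL ⟨11 :: [3, 11, 10, 8, 3, 1, 12, 4], [1, 2, 4, 3, 0], 18, false⟩) (lall (memL L) [3, 11, 10, 8, 3, 1, 12, 4]) = true := by decide +kernel

theorem rot11_17 : T.rot 11 [10, 8, 3, 1, 12, 4, 11, 3] (sel (ones 3125) ip11 17) = true := by decide +kernel

theorem rot11_17r : band (Rule.ok (2 * 0) EX RL ⟨11 :: [10, 8, 3, 1, 12, 4, 11, 3], [1, 2, 4, 3, 0, 2, 5, 3, 5], 18, false⟩) (lall (memL L) [10, 8, 3, 1, 12, 4, 11, 3]) = true := by decide +kernel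

theorem cov11 : T.cover 11 [(sel (ones 3125) ip11 1), (sel (ones 3125) ip11 2), (sel (ones 3125) ip11 3), (sel (ones 3125) ip11 4), (sel (ones 3125) ip11 5), (sel (ones 3125) ip11 6), (sel (ones 3125) ip11 7), (sel (ones 3125) ip11 8), (sel (ones 3125) ip11 9), (sel (ones 3125) ip11 10), (sel (ones 3125) ip11 11), (sel (ones 3125) ip11 12), (sel (ones 3125) ip11 13), (sel (ones 3125) ip11 14), (sel (ones 3125) ip11 15), (sel (ones 3125) ip11 16), (sel (ones 3125) ip11 17)] = true := by decide +kernel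

theorem tl11 : Nat.beq (T.let 11).tt 0 = true := by decide +kernel

theorem rot12_1 : T.rot 12 [11] (sel (ones 3125) ip12 1) = true := by decide +kernel

theorem rot12_1r : band (Rule.ok (2 * 0) EX RL ⟨12 :: [11], [], 23, false⟩) (lall (memL L) [11]) = true := by decide +kernel

theorem rot12_2 : T.rot 12 [13, 11, 14] (sel (ones 3125) ip12 2) = true := by decide +kernel

theorem rot12_2r : band (Rule.ok (2 * 0) EX RL ⟨12 :: [13, 11, 14], [2, 5, 3], 10, true⟩) (lall (memL L) [13, 11, 14]) = true := by decide +kernel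

theorem rot12_3 : T.rot 12 [14, 11, 13] (sel (ones 3125) ip12 3) = true := by decide +kernel

theorem rot12_3r : band (Rule.ok (2 * 0) EX RL ⟨12 :: [14, 11, 13], [1, 5, 0, 5, 1, 4, 0, 4, 2, 5, 3], 10, false⟩) (lall (memL L) [14, 11, 13]) = true := by decide +kernel

theorem rot12_4 : T.rot 12 [8, 11, 7] (sel (ones 3125) ip12 4) = true := by decide +kernel

theorem rot12_4r : band (Rule.ok (2 * 0) EX RL ⟨12 :: [8, 11, 7], [1, 5, 0, 2, 5, 3], 14, true⟩) (lall (memL L) [8, 11, 7]) = true := by decide +kernel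

theorem rot12_5 : T.rot 12 [7, 11, 8] (sel (ones 3125) ip12 5) = true := by decide +kernel

theorem rot12_5r : band (Rule.ok (2 * 0) EX RL ⟨12 :: [7, 11, 8], [2, 5, 3], 14, false⟩) (lall (memL L) [7, 11, 8]) = true := by decide +kernel

theorem rot12_6 : T.rot 12 [5, 3, 2] (sel (ones 3125) ip12 6) = true := by decide +kernel

theorem rot12_6r : band (Rule.ok (2 * 0) EX RL ⟨12 :: [5, 3, 2], [], 23, false⟩) (lall (memL L) [5, 3, 2]) = true := by decide +kernel

theorem rot12_7 : T.rot 12 [10, 13, 11, 9] (sel (ones 3125) ip12 7) = true := by decide +kernel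

theorem rot12_7r : band (Rule.ok (2 * 0) EX RL ⟨12 :: [10, 13, 11, 9], [3, 5, 2, 2, 5, 3], 15, true⟩) (lall (memL L) [10, 13, 11, 9]) = true := by decide +kernel

theorem rot12_8 : T.rot 12 [14, 9, 11, 10] (sel (ones 3125) ip12 8) = true := by decide +kernel

theorem rot12_8r : band (Rule.ok (2 * 0) EX RL ⟨12 :: [14, 9, 11, 10], [3, 5, 2, 2, 5, 3, 3, 4, 2], 15, false⟩) (lall (memL L) [14, 9, 11, 10]) = true := by decide +kernel

theorem rot12_9 : T.rot 12 [6, 14, 14, 11, 3] (sel (ones 3125) ip12 9) = true := by decide +kernel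

theorem rot12_9r : band (Rule.ok (2 * 0) EX RL ⟨12 :: [6, 14, 14, 11, 3], [5, 2, 5, 3], 12, true⟩) (lall (memL L) [6, 14, 14, 11, 3]) = true := by decide +kernel

theorem rot12_10 : T.rot 12 [13, 13, 3, 11, 6] (sel (ones 3125) ip12 10) = true := by decide +kernel

theorem rot12_10r : band (Rule.ok (2 * 0) EX RL ⟨12 :: [13, 13, 3, 11, 6], [5, 2, 5, 3, 4], 12, false⟩) (lall (memL L) [13, 13, 3, 11, 6]) = true := by decide +kernel

theorem rot12_11 : T.rot 12 [1, 9, 4, 9, 9, 6] (sel (ones 3125) ip12 11) = true := by decide +kernel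

theorem rot12_11r : band (Rule.ok (2 * 0) EX RL ⟨12 :: [1, 9, 4, 9, 9, 6], [3, 5, 5, 2, 4], 17, true⟩) (lall (memL L) [1, 9, 4, 9, 9, 6]) = true := by decide +kernel

theorem rot12_12 : T.rot 12 [6, 12, 9, 7, 2, 8, 5] (sel (ones 3125) ip12 12) = true := by decide +kernel

theorem rot12_12r : band (Rule.ok (2 * 0) EX RL ⟨12 :: [6, 12, 9, 7, 2, 8, 5], [3, 1, 4, 0, 2], 20, false⟩) (lall (memL L) [6, 12, 9, 7, 2, 8, 5]) = true := by decide +kernel

theorem rot12_13 : T.rot 12 [9, 7, 2, 8, 5, 12, 6] (sel (ones 3125) ip12 13) = true := by decide +kernel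

theorem rot12_13r : band (Rule.ok (2 * 0) EX RL ⟨12 :: [9, 7, 2, 8, 5, 12, 6], [1, 4, 0, 3, 4, 2, 2, 5, 3], 20, false⟩) (lall (memL L) [9, 7, 2, 8, 5, 12, 6]) = true := by decide +kernel

theorem rot12_14 : T.rot 12 [9, 9, 2, 9, 5, 6, 6] (sel (ones 3125) ip12 14) = true := by decide +kernel

theorem rot12_14r : band (Rule.ok (2 * 0) EX RL ⟨12 :: [9, 9, 2, 9, 5, 6, 6], [4, 4], 21, true⟩) (lall (memL L) [9, 9, 2, 9, 5, 6, 6]) = true := by decide +kernel

theorem rot12_15 : T.rot 12 [6, 12, 1, 11, 4, 6, 7, 9] (sel (ones 3125) ip12 15) = true := by decide +kernel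

theorem rot12_15r : band (Rule.ok (2 * 0) EX RL ⟨12 :: [6, 12, 1, 11, 4, 6, 7, 9], [4, 1, 5, 0, 3, 5, 2], 18, true⟩) (lall (memL L) [6, 12, 1, 11, 4, 6, 7, 9]) = true := by decide +kernel

theorem rot12_16 : T.rot 12 [1, 11, 4, 6, 7, 9, 12, 6] (sel (ones 3125) ip12 16) = true := by decide +kernel

theorem rot12_16r : band (Rule.ok (2 * 0) EX RL ⟨12 :: [1, 11, 4, 6, 7, 9, 12, 6], [1, 2, 4, 3, 0, 2, 5, 3], 18, true⟩) (lall (memL L) [1, 11, 4, 6, 7, 9, 12, 6]) = true := by decide +kernel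

theorem rot12_17 : T.rot 12 [4, 11, 3, 11, 10, 8, 3, 1] (sel (ones 3125) ip12 17) = true := by decide +kernel

theorem rot12_17r : band (Rule.ok (2 * 0) EX RL ⟨12 :: [4, 11, 3, 11, 10, 8, 3, 1], [1], 18, false⟩) (lall (memL L) [4, 11, 3, 11, 10, 8, 3, 1]) = true := by decide +kernel

theorem cov12 : T.cover 12 [(sel (ones 3125) ip12 1), (sel (ones 3125) ip12 2), (sel (ones 3125) ip12 3), (sel (ones 3125) ip12 4), (sel (ones 3125) ip12 5), (sel (ones 3125) ip12 6), (sel (ones 3125) ip12 7), (sel (ones 3125) ip12 8), (sel (ones 3125) ip12 9), (sel (ones 3125) ip12 10), (sel (ones 3125) ip12 11), (sel (ones 3125) ip12 12), (sel (ones 3125) ip12 13), (sel (ones 3125) ip12 14), (sel (ones 3125) ip12 15), (sel (ones 3125) ip12 16), (sel (ones 3125) ip12 17)] = true := by decide +kernel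

theorem tl12 : Nat.beq (T.let 12).tt 0 = true := by decide +kernel

theorem rot13_1 : T.rot 13 [14] (sel (ones 3125) ip13 1) = true := by decide +kernel

theorem rot13_1r : band (Rule.ok (2 * 0) EX RL ⟨13 :: [14], [], 23, false⟩) (lall (memL L) [14]) = true := by decide +kernel

theorem rot13_2 : T.rot 13 [3, 14, 6] (sel (ones 3125) ip13 2) = true := by decide +kernel

theorem rot13_2r : band (Rule.ok (2 * 0) EX RL ⟨13 :: [3, 14, 6], [], 7, true⟩) (lall (memL L) [3, 14, 6]) = true := by decide +kernel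

theorem rot13_3 : T.rot 13 [6, 14, 3] (sel (ones 3125) ip13 3) = true := by decide +kernel

theorem rot13_3r : band (Rule.ok (2 * 0) EX RL ⟨13 :: [6, 14, 3], [5], 7, false⟩) (lall (memL L) [6, 14, 3]) = true := by decide +kernel

theorem rot13_4 : T.rot 13 [7, 14, 8] (sel (ones 3125) ip13 4) = true := by decide +kernel

theorem rot13_4r : band (Rule.ok (2 * 0) EX RL ⟨13 :: [7, 14, 8], [], 8, true⟩) (lall (memL L) [7, 14, 8]) = true := by decide +kernel

theorem rot13_5 : T.rot 13 [8, 14, 7] (sel (ones 3125) ip13 5) = true := by decide +kernel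

theorem rot13_5r : band (Rule.ok (2 * 0) EX RL ⟨13 :: [8, 14, 7], [1, 5, 0], 8, false⟩) (lall (memL L) [8, 14, 7]) = true := by decide +kernel

theorem rot13_6 : T.rot 13 [9, 14, 10] (sel (ones 3125) ip13 6) = true := by decide +kernel

theorem rot13_6r : band (Rule.ok (2 * 0) EX RL ⟨13 :: [9, 14, 10], [], 9, true⟩) (lall (memL L) [9, 14, 10]) = true := by decide +kernel

theorem rot13_7 : T.rot 13 [10, 14, 9] (sel (ones 3125) ip13 7) = true := by decide +kernel

theorem rot13_7r : band (Rule.ok (2 * 0) EX RL ⟨13 :: [10, 14, 9], [3, 5, 2], 9, false⟩) (lall (memL L) [10, 14, 9]) = true := by decide +kernel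

theorem rot13_8 : T.rot 13 [11, 14, 12] (sel (ones 3125) ip13 8) = true := by decide +kernel

theorem rot13_8r : band (Rule.ok (2 * 0) EX RL ⟨13 :: [11, 14, 12], [], 10, true⟩) (lall (memL L) [11, 14, 12]) = true := by decide +kernel

theorem rot13_9 : T.rot 13 [12, 14, 11] (sel (ones 3125) ip13 9) = true := by decide +kernel

theorem rot13_9r : band (Rule.ok (2 * 0) EX RL ⟨13 :: [12, 14, 11], [2, 5, 3], 10, false⟩) (lall (memL L) [12, 14, 11]) = true := by decide +kernel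

theorem rot13_10 : T.rot 13 [5, 14, 2] (sel (ones 3125) ip13 10) = true := by decide +kernel

theorem rot13_10r : band (Rule.ok (2 * 0) EX RL ⟨13 :: [5, 14, 2], [3, 5, 1, 5, 0, 4, 1, 4, 0], 22, true⟩) (lall (memL L) [5, 14, 2]) = true := by decide +kernel

theorem rot13_11 : T.rot 13 [2, 14, 5] (sel (ones 3125) ip13 11) = true := by decide +kernel

theorem rot13_11r : band (Rule.ok (2 * 0) EX RL ⟨13 :: [2, 14, 5], [5, 1, 5, 0, 4, 1, 4, 0], 22, false⟩) (lall (memL L) [2, 14, 5]) = true := by decide +kernel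

theorem rot13_12 : T.rot 13 [13, 13, 13, 13] (sel (ones 3125) ip13 12) = true := by decide +kernel

theorem rot13_12r : band (Rule.ok (2 * 0) EX RL ⟨13 :: [13, 13, 13, 13], [], 6, true⟩) (lall (memL L) [13, 13, 13, 13]) = true := by decide +kernel

theorem rot13_13 : T.rot 13 [9, 7, 10, 8] (sel (ones 3125) ip13 13) = true := by decide +kernel

theorem rot13_13r : band (Rule.ok (2 * 0) EX RL ⟨13 :: [9, 7, 10, 8], [], 13, true⟩) (lall (memL L) [9, 7, 10, 8]) = true := by decide +kernel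

theorem rot13_14 : T.rot 13 [11, 9, 12, 10] (sel (ones 3125) ip13 14) = true := by decide +kernel

theorem rot13_14r : band (Rule.ok (2 * 0) EX RL ⟨13 :: [11, 9, 12, 10], [], 15, true⟩) (lall (memL L) [11, 9, 12, 10]) = true := by decide +kernel

theorem rot13_15 : T.rot 13 [4, 14, 14, 1] (sel (ones 3125) ip13 15) = true := by decide +kernel

theorem rot13_15r : band (Rule.ok (2 * 0) EX RL ⟨13 :: [4, 14, 14, 1], [1, 5, 1, 5, 0, 4, 1, 4, 0], 19, true⟩) (lall (memL L) [4, 14, 14, 1]) = true := by decide +kernel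

theorem rot13_16 : T.rot 13 [13, 1, 14, 4] (sel (ones 3125) ip13 16) = true := by decide +kernel

theorem rot13_16r : band (Rule.ok (2 * 0) EX RL ⟨13 :: [13, 1, 14, 4], [1, 5, 1, 5, 0, 4, 1, 4, 0, 0], 19, false⟩) (lall (memL L) [13, 1, 14, 4]) = true := by decide +kernel

theorem rot13_17 : T.rot 13 [1, 14, 4, 13] (sel (ones 3125) ip13 17) = true := by decide +kernel

theorem rot13_17r : band (Rule.ok (2 * 0) EX RL ⟨13 :: [1, 14, 4, 13], [5, 1, 5, 0, 4, 1, 4, 0], 19, false⟩) (lall (memL L) [1, 14, 4, 13]) = true := by decide +kernel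

theorem rot13_18 : T.rot 13 [3, 7, 6, 8] (sel (ones 3125) ip13 18) = true := by decide +kernel

theorem rot13_18r : band (Rule.ok (2 * 0) EX RL ⟨13 :: [3, 7, 6, 8], [], 23, false⟩) (lall (memL L) [3, 7, 6, 8]) = true := by decide +kernel

theorem rot13_19 : T.rot 13 [13, 9, 3, 10, 6] (sel (ones 3125) ip13 19) = true := by decide +kernel

theorem rot13_19r : band (Rule.ok (2 * 0) EX RL ⟨13 :: [13, 9, 3, 10, 6], [], 11, true⟩) (lall (memL L) [13, 9, 3, 10, 6]) = true := by decide +kernel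

theorem rot13_20 : T.rot 13 [9, 3, 10, 6, 13] (sel (ones 3125) ip13 20) = true := by decide +kernel

theorem rot13_20r : band (Rule.ok (2 * 0) EX RL ⟨13 :: [9, 3, 10, 6, 13], [1, 5, 0, 5, 1, 4, 0, 4], 11, true⟩) (lall (memL L) [9, 3, 10, 6, 13]) = true := by decide +kernel

theorem rot13_21 : T.rot 13 [13, 3, 11, 6, 12] (sel (ones 3125) ip13 21) = true := by decide +kernel

theorem rot13_21r : band (Rule.ok (2 * 0) EX RL ⟨13 :: [13, 3, 11, 6, 12], [5, 2, 5, 3, 4, 2, 4, 3], 12, false⟩) (lall (memL L) [13, 3, 11, 6, 12]) = true := by decide +kernel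

theorem rot13_22 : T.rot 13 [3, 11, 6, 12, 13] (sel (ones 3125) ip13 22) = true := by decide +kernel

theorem rot13_22r : band (Rule.ok (2 * 0) EX RL ⟨13 :: [3, 11, 6, 12, 13], [5, 1, 5, 0, 4, 1, 4, 0], 12, false⟩) (lall (memL L) [3, 11, 6, 12, 13]) = true := by decide +kernel

theorem cov13 : T.cover 13 [(sel (ones 3125) ip13 1), (sel (ones 3125) ip13 2), (sel (ones 3125) ip13 3), (sel (ones 3125) ip13 4), (sel (ones 3125) ip13 5), (sel (ones 3125) ip13 6), (sel (ones 3125) ip13 7), (sel (ones 3125) ip13 8), (sel (ones 3125) ip13 9), (sel (ones 3125) ip13 10), (sel (ones 3125) ip13 11), (sel (ones 3125) ip13 12), (sel (ones 3125) ip13 13), (sel (ones 3125) ip13 14), (sel (ones 3125) ip13 15), (sel (ones 3125) ip13 16), (sel (ones 3125) ip13 17), (sel (ones 3125) ip13 18), (sel (ones 3125) ip13 19), (sel (ones 3125) ip13 20), (sel (ones 3125) ip13 21), (sel (ones 3125) ip13 22)] = true := by decide +kernel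

theorem tl13 : Nat.beq (T.let 13).tt 0 = true := by decide +kernel

theorem rot14_1 : T.rot 14 [13] (sel (ones 3125) ip14 1) = true := by decide +kernel

theorem rot14_1r : band (Rule.ok (2 * 0) EX RL ⟨14 :: [13], [], 23, false⟩) (lall (memL L) [13]) = true := by decide +kernel

theorem rot14_2 : T.rot 14 [6, 13, 3] (sel (ones 3125) ip14 2) = true := by decide +kernel

theorem rot14_2r : band (Rule.ok (2 * 0) EX RL ⟨14 :: [6, 13, 3], [1, 5, 0, 5, 1, 4, 0], 7, true⟩) (lall (memL L) [6, 13, 3]) = true := by decide +kernel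

theorem rot14_3 : T.rot 14 [3, 13, 6] (sel (ones 3125) ip14 3) = true := by decide +kernel

theorem rot14_3r : band (Rule.ok (2 * 0) EX RL ⟨14 :: [3, 13, 6], [1, 5, 0, 5, 1, 4, 0, 4], 7, false⟩) (lall (memL L) [3, 13, 6]) = true := by decide +kernel

theorem rot14_4 : T.rot 14 [8, 13, 7] (sel (ones 3125) ip14 4) = true := by decide +kernel

theorem rot14_4r : band (Rule.ok (2 * 0) EX RL ⟨14 :: [8, 13, 7], [1, 5, 5, 0, 5, 1, 4, 0, 4], 8, true⟩) (lall (memL L) [8, 13, 7]) = true := by decide +kernel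

theorem rot14_5 : T.rot 14 [7, 13, 8] (sel (ones 3125) ip14 5) = true := by decide +kernel

theorem rot14_5r : band (Rule.ok (2 * 0) EX RL ⟨14 :: [7, 13, 8], [1, 5, 0, 5, 1, 4, 0, 4], 8, false⟩) (lall (memL L) [7, 13, 8]) = true := by decide +kernel

theorem rot14_6 : T.rot 14 [10, 13, 9] (sel (ones 3125) ip14 6) = true := by decide +kernel

theorem rot14_6r : band (Rule.ok (2 * 0) EX RL ⟨14 :: [10, 13, 9], [3, 5, 2, 1, 5, 0, 5, 1, 4, 0, 4], 9, true⟩) (lall (memL L) [10, 13, 9]) = true := by decide +kernel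

theorem rot14_7 : T.rot 14 [9, 13, 10] (sel (ones 3125) ip14 7) = true := by decide +kernel

theorem rot14_7r : band (Rule.ok (2 * 0) EX RL ⟨14 :: [9, 13, 10], [1, 5, 0, 5, 1, 4, 0, 4], 9, false⟩) (lall (memL L) [9, 13, 10]) = true := by decide +kernel

theorem rot14_8 : T.rot 14 [12, 13, 11] (sel (ones 3125) ip14 8) = true := by decide +kernel

theorem rot14_8r : band (Rule.ok (2 * 0) EX RL ⟨14 :: [12, 13, 11], [2, 5, 3, 1, 5, 0, 5, 1, 4, 0, 4], 10, true⟩) (lall (memL L) [12, 13, 11]) = true := by decide +kernel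

theorem rot14_9 : T.rot 14 [11, 13, 12] (sel (ones 3125) ip14 9) = true := by decide +kernel

theorem rot14_9r : band (Rule.ok (2 * 0) EX RL ⟨14 :: [11, 13, 12], [1, 5, 0, 5, 1, 4, 0, 4], 10, false⟩) (lall (memL L) [11, 13, 12]) = true := by decide +kernel

theorem rot14_10 : T.rot 14 [2, 13, 5] (sel (ones 3125) ip14 10) = true := by decide +kernel

theorem rot14_10r : band (Rule.ok (2 * 0) EX RL ⟨14 :: [2, 13, 5], [], 22, true⟩) (lall (memL L) [2, 13, 5]) = true := by decide +kernel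

theorem rot14_11 : T.rot 14 [5, 13, 2] (sel (ones 3125) ip14 11) = true := by decide +kernel

theorem rot14_11r : band (Rule.ok (2 * 0) EX RL ⟨14 :: [5, 13, 2], [3], 22, false⟩) (lall (memL L) [5, 13, 2]) = true := by decide +kernel

theorem rot14_12 : T.rot 14 [14, 14, 14, 14] (sel (ones 3125) ip14 12) = true := by decide +kernel

theorem rot14_12r : band (Rule.ok (2 * 0) EX RL ⟨14 :: [14, 14, 14, 14], [], 6, false⟩) (lall (memL L) [14, 14, 14, 14]) = true := by decide +kernel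

theorem rot14_13 : T.rot 14 [7, 9, 8, 10] (sel (ones 3125) ip14 13) = true := by decide +kernel

theorem rot14_13r : band (Rule.ok (2 * 0) EX RL ⟨14 :: [7, 9, 8, 10], [1, 5, 0, 5, 1, 4, 0, 4], 13, false⟩) (lall (memL L) [7, 9, 8, 10]) = true := by decide +kernel

theorem rot14_14 : T.rot 14 [9, 11, 10, 12] (sel (ones 3125) ip14 14) = true := by decide +kernel

theorem rot14_14r : band (Rule.ok (2 * 0) EX RL ⟨14 :: [9, 11, 10, 12], [1, 5, 0, 5, 1, 4, 0, 4], 15, false⟩) (lall (memL L) [9, 11, 10, 12]) = true := by decide +kernel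

theorem rot14_15 : T.rot 14 [14, 1, 13, 4] (sel (ones 3125) ip14 15) = true := by decide +kernel

theorem rot14_15r : band (Rule.ok (2 * 0) EX RL ⟨14 :: [14, 1, 13, 4], [], 19, true⟩) (lall (memL L) [14, 1, 13, 4]) = true := by decide +kernel

theorem rot14_16 : T.rot 14 [1, 13, 4, 14] (sel (ones 3125) ip14 16) = true := by decide +kernel

theorem rot14_16r : band (Rule.ok (2 * 0) EX RL ⟨14 :: [1, 13, 4, 14], [5, 1, 5, 0, 4, 1, 4, 0], 19, true⟩) (lall (memL L) [1, 13, 4, 14]) = true := by decide +kernel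

theorem rot14_17 : T.rot 14 [4, 13, 13, 1] (sel (ones 3125) ip14 17) = true := by decide +kernel

theorem rot14_17r : band (Rule.ok (2 * 0) EX RL ⟨14 :: [4, 13, 13, 1], [1], 19, false⟩) (lall (memL L) [4, 13, 13, 1]) = true := by decide +kernel

theorem rot14_18 : T.rot 14 [7, 3, 8, 6] (sel (ones 3125) ip14 18) = true := by decide +kernel

theorem rot14_18r : band (Rule.ok (2 * 0) EX RL ⟨14 :: [7, 3, 8, 6], [], 23, false⟩) (lall (memL L) [7, 3, 8, 6]) = true := by decide +kernel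

theorem rot14_19 : T.rot 14 [14, 3, 9, 6, 10] (sel (ones 3125) ip14 19) = true := by decide +kernel

theorem rot14_19r : band (Rule.ok (2 * 0) EX RL ⟨14 :: [14, 3, 9, 6, 10], [5, 3, 5, 2, 4, 3, 4, 2], 11, false⟩) (lall (memL L) [14, 3, 9, 6, 10]) = true := by decide +kernel

theorem rot14_20 : T.rot 14 [3, 9, 6, 10, 14] (sel (ones 3125) ip14 20) = true := by decide +kernel

theorem rot14_20r : band (Rule.ok (2 * 0) EX RL ⟨14 :: [3, 9, 6, 10, 14], [1, 5, 0, 5, 1, 4, 0, 4], 11, false⟩) (lall (memL L) [3, 9, 6, 10, 14]) = true := by decide +kernel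

theorem rot14_21 : T.rot 14 [14, 11, 3, 12, 6] (sel (ones 3125) ip14 21) = true := by decide +kernel

theorem rot14_21r : band (Rule.ok (2 * 0) EX RL ⟨14 :: [14, 11, 3, 12, 6], [], 12, true⟩) (lall (memL L) [14, 11, 3, 12, 6]) = true := by decide +kernel

theorem rot14_22 : T.rot 14 [11, 3, 12, 6, 14] (sel (ones 3125) ip14 22) = true := by decide +kernel

theorem rot14_22r : band (Rule.ok (2 * 0) EX RL ⟨14 :: [11, 3, 12, 6, 14], [5, 1, 5, 0, 4, 1, 4, 0], 12, true⟩) (lall (memL L) [11, 3, 12, 6, 14]) = true := by decide +kernel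

theorem cov14 : T.cover 14 [(sel (ones 3125) ip14 1), (sel (ones 3125) ip14 2), (sel (ones 3125) ip14 3), (sel (ones 3125) ip14 4), (sel (ones 3125) ip14 5), (sel (ones 3125) ip14 6), (sel (ones 3125) ip14 7), (sel (ones 3125) ip14 8), (sel (ones 3125) ip14 9), (sel (ones 3125) ip14 10), (sel (ones 3125) ip14 11), (sel (ones 3125) ip14 12), (sel (ones 3125) ip14 13), (sel (ones 3125) ip14 14), (sel (ones 3125) ip14 15), (sel (ones 3125) ip14 16), (sel (ones 3125) ip14 17), (sel (ones 3125) ip14 18), (sel (ones 3125) ip14 19), (sel (ones 3125) ip14 20), (sel (ones 3125) ip14 21), (sel (ones 3125) ip14 22)] = true := by decide +kernel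

theorem tl14 : Nat.beq (T.let 14).tt 0 = true := by decide +kernel

end Cfsg.Agent.Spor.Ly3125
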